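import Cfsg.Agent.SporB.Fi24.Index
import Cfsg.Agent.Exist24.Low
import Cfsg.Agent.Exist24.Checked
import Cfsg.Agent.TT95.Layer24
import Cfsg.Prelude.Def_Sporadic

/-!
The presented `Fi24` is the model group, and its derived subgroup is simple.
-/

set_option autoImplicit false
set_option maxRecDepth 100000

namespace Cfsg.Agent.CosetEnum.Fi24
open Cfsg.Agent.Exist24 (X Gm D24 Checked)

variable (H : Checked)

theorem phi_range : (phi H).range = Gm H := by
  apply le_antisymm
  · rw [MonoidHom.range_eq_map, ← pres.closure_val, MonoidHom.map_closure, Subgroup.closure_le]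
    rintro _ ⟨_, ⟨l, hl, rfl⟩, rfl⟩
    rw [phi_val H (show l < 12 from hl)]
    exact mv_mem H l
  · refine Gm_le H ⟨pres.val 10, ?_⟩ ⟨pres.val 11, ?_⟩ fun l hl => ⟨pres.val l, ?_⟩
    · rw [phi_val H (by omega)]; rfl
    · rw [phi_val H (by omega)]; rfl
    · rw [phi_val H (by omega), mv, if_pos hl]

/-- The presented group is the model group. -/
noncomputable def toModel : G ≃* Gm H :=
  (MonoidHom.ofInjective (phi_injective H)).trans (MulEquiv.subgroupCongr (phi_range H))

theorem group24 : Cfsg.IsThreeTranspositionGroup (D24 H) :=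
  ⟨(Exist24.class24 H).1, fun g d ⟨x, hx⟩ => ⟨(g : Equiv.Perm X) x, by rw [← hx, Exist24.T24_conj]⟩,
    (Exist24.class24 H).2.2⟩

theorem derived_model : IsSimpleGroup (commutator (Gm H)) ∧
    Nat.card (commutator (Gm H)) = 1255205709190661721292800 := by
  haveI : Finite (Gm H) := inferInstance
  have ht := Exist24.type24 H ⟨Exist24.type23.1, Exist24.type23.2.2⟩
  obtain ⟨d, q, hG⟩ := TT95.cfg24_of_type (group24 H) (Exist24.prim24 H) ht
  haveI := TT95.Gen.of_group (group24 H)
  refine ⟨TT95.simple_commutator24 hG, ?_⟩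
  have h := Subgroup.card_mul_index (commutator (Gm H))
  rw [TT95.index_commutator24 hG, TT95.card_group24 hG] at h
  omega

theorem fi24_prime : Cfsg.IsFi24' Cfsg.Spor.Fi24' := by
  let e := toModel Exist24.checked
  have hmap : (commutator G).map e.toMonoidHom = commutator (Gm Exist24.checked) := by
    rw [map_commutator_eq, MonoidHom.range_eq_top.mpr e.surjective, commutator_def]
  let e' : commutator G ≃* commutator (Gm Exist24.checked) :=
    (e.subgroupMap (commutator G)).trans (MulEquiv.subgroupCongr hmap)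
  obtain ⟨h1, h2⟩ := derived_model Exist24.checked
  haveI := h1
  exact ⟨e'.isSimpleGroup, (Nat.card_congr e'.toEquiv).trans h2⟩

theorem index_all_but_k :
    (((Subgroup.closure ({Cfsg.Spor.Fi24.a, Cfsg.Spor.Fi24.b, Cfsg.Spor.Fi24.c, Cfsg.Spor.Fi24.d, Cfsg.Spor.Fi24.e,
      Cfsg.Spor.Fi24.f, Cfsg.Spor.Fi24.g, Cfsg.Spor.Fi24.h, Cfsg.Spor.Fi24.i, Cfsg.Spor.Fi24.j, Cfsg.Spor.Fi24.l} :
        Set (FreeGroup Cfsg.Spor.Fi24.Gen))).map
      (PresentedGroup.mk (Cfsg.Spor.coxRelators Cfsg.Spor.Fi24.edges ∪ {r | r ∈ Cfsg.Spor.Fi24.extra}))) :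
        Subgroup G).index = 306936 := by
  set C : Subgroup G := ((Subgroup.closure ({Cfsg.Spor.Fi24.a, Cfsg.Spor.Fi24.b, Cfsg.Spor.Fi24.c, Cfsg.Spor.Fi24.d,
      Cfsg.Spor.Fi24.e, Cfsg.Spor.Fi24.f, Cfsg.Spor.Fi24.g, Cfsg.Spor.Fi24.h, Cfsg.Spor.Fi24.i, Cfsg.Spor.Fi24.j,
      Cfsg.Spor.Fi24.l} : Set (FreeGroup Cfsg.Spor.Fi24.Gen))).map
      (PresentedGroup.mk (Cfsg.Spor.coxRelators Cfsg.Spor.Fi24.edges ∪ {r | r ∈ Cfsg.Spor.Fi24.extra}))) with hC
  suffices e : C = Hs Exist24.checked by rw [e]; exact Hs_index _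
  have hval : ∀ l < 11, pres.val l ∈ C := by
    intro l hl
    interval_cases l
    · exact ⟨Cfsg.Spor.Fi24.a, Subgroup.subset_closure (by simp), rfl⟩
    · exact ⟨Cfsg.Spor.Fi24.b, Subgroup.subset_closure (by simp), rfl⟩
    · exact ⟨Cfsg.Spor.Fi24.c, Subgroup.subset_closure (by simp), rfl⟩
    · exact ⟨Cfsg.Spor.Fi24.d, Subgroup.subset_closure (by simp), rfl⟩
    · exact ⟨Cfsg.Spor.Fi24.e, Subgroup.subset_closure (by simp), rfl⟩
    · exact ⟨Cfsg.Spor.Fi24.f, Subgroup.subset_closure (by simp), rfl⟩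
    · exact ⟨Cfsg.Spor.Fi24.g, Subgroup.subset_closure (by simp), rfl⟩
    · exact ⟨Cfsg.Spor.Fi24.j, Subgroup.subset_closure (by simp), rfl⟩
    · exact ⟨Cfsg.Spor.Fi24.h, Subgroup.subset_closure (by simp), rfl⟩
    · exact ⟨Cfsg.Spor.Fi24.i, Subgroup.subset_closure (by simp), rfl⟩
    · exact ⟨Cfsg.Spor.Fi24.l, Subgroup.subset_closure (by simp), rfl⟩
  apply le_antisymm
  · refine Subgroup.map_le_iff_le_comap.mpr ((Subgroup.closure_le _).mpr ?_)
    intro x hx
    refine Subgroup.mem_comap.mpr ?_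
    simp only [Set.mem_insert_iff, Set.mem_singleton_iff] at hx
    have hm : ∀ l < 11, pres.val l ∈ Hs Exist24.checked := fun l hl => by
      have := word_mem Exist24.checked (W := [l]) (by simpa using hl)
      rwa [show evalWord pres.val [l] = pres.val l from mul_one _] at this
    rcases hx with rfl | rfl | rfl | rfl | rfl | rfl | rfl | rfl | rfl | rfl | rfl
    exacts [hm 0 (by omega), hm 1 (by omega), hm 2 (by omega), hm 3 (by omega), hm 4 (by omega), hm 5 (by omega),
      hm 6 (by omega), hm 8 (by omega), hm 9 (by omega), hm 7 (by omega), hm 10 (by omega)]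
  · rintro _ ⟨⟨u, g⟩, rfl⟩
    show signHom u * iota Exist24.checked g ∈ C
    refine mul_mem ?_ ?_
    · rcases Int.units_eq_one_or u with rfl | rfl
      · rw [map_one]; exact one_mem _
      · rw [signHom_neg]; exact hval 10 (by omega)
    · have htop : C.comap (iota Exist24.checked) = ⊤ := by
        rw [eq_top_iff, ← Fi23.pres.closure_val, Subgroup.closure_le]
        rintro _ ⟨l, hl, rfl⟩
        show iota Exist24.checked (Fi23.pres.val l) ∈ C
        rw [iota_val _ (show l < 10 from hl)]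
        exact mul_mem (hval l (by have : l < 10 := hl; omega)) (hval 10 (by omega))
      exact SetLike.le_def.mp htop.ge (Subgroup.mem_top g)

end Cfsg.Agent.CosetEnum.Fi24
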