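import Cfsg.Agent.SporB.Fi24.Trace

/-!
The presented group acts faithfully on the points of the model.
-/

set_option autoImplicit false
set_option maxRecDepth 100000
set_option linter.unusedSectionVars false

namespace Cfsg.Agent.CosetEnum.Fi24
open Cfsg.Agent.Exist24 (X G2 sig neg' gen el kP cd dc oX aX Kset lC gC kC Checked)
open Cfsg.Agent.CosetEnum.Fi23.Tri (act)

variable (H : Checked)

theorem fix1_letter : ∀ l, 1 ≤ l → l < 10 → pt H ([11] ++ [l]) = pt H [11] := by
  intro l h1 h10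
  have e : pt H [11, l] = pt H [l, 11] := pt_swap H [] (comm_swap (k_comm h1 h10)) []
  exact e.trans (pt_drop H (U := [l]) (by simpa using (show l < 11 by omega)) [11])

/-- The stabiliser of the point fixes the coset of `k`. -/
theorem hfix1 : ∀ p : G2, sig H p (psi H (pt H [11])) = psi H (pt H [11]) → jh H p • pt H [11] = pt H [11] := by
  intro p hp
  rw [psi_k] at hp
  have hmem := stab_oX (fix_k hp)
  have hle : Subgroup.closure Kset ≤ (MulAction.stabilizer G (pt H [11])).comap (jh H) := by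
    have hword : ∀ {W : List ℕ}, (∀ l ∈ W, l < 11) → pt H ([11] ++ W) = pt H [11] →
        jh H ((-1) ^ W.length, evalWord Fi23.pres.val (strip W)) • pt H [11] = pt H [11] := by
      intro W hW h
      rw [← jh_word H hW]
      rw [pt_append] at h
      conv_lhs => rw [← h]
      rw [smul_inv_smul]
    rw [Subgroup.closure_le]
    rintro q (rfl | ⟨l, hl, rfl⟩)
    · have e : strip Fi23.Tri.xFull = Fi23.Tri.xFull := by decide +kernel
      have h := hword (W := Fi23.Tri.xFull) (fun l hl => by have := Exist24.xFull_lt l hl; omega) (tau H)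
      rw [e, show ((-1 : ℤˣ)) ^ Fi23.Tri.xFull.length = -1 by decide] at h
      exact h
    · obtain ⟨h1, h10⟩ := Exist24.L0l_range l hl
      have h := hword (W := [l]) (by simpa using (show l < 11 by omega)) (fix1_letter H l h1 h10)
      rw [strip_lt _ h10, show strip [] = [] from rfl, show evalWord Fi23.pres.val [l] = Fi23.pres.val l from mul_one _,
        show ((-1 : ℤˣ)) ^ [l].length = -1 from pow_one _] at h
      exact h
  exact hle hmem

theorem eq1' {U V : List ℕ} (h : (U.all (fun l => Nat.blt l 11) && V.all (fun l => Nat.blt l 11) &&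
    Nat.beq (runC ([11] ++ U) 0) (runC ([11] ++ V) 0)) = true) : pt H ([11] ++ U) = pt H ([11] ++ V) := by
  simp only [Bool.and_eq_true, List.all_eq_true] at h
  exact pt_eq_of_run (by decide) (hfix1 H) (fun l hl => Nat.le_of_ble_eq_true (h.1.1 l hl))
    (fun l hl => Nat.le_of_ble_eq_true (h.1.2 l hl)) (Nat.eq_of_beq_eq_true h.2)

/-- The cosets reached from the base coset, the coset of `k`, and the coset next to it. -/
def Reach : Set (Cos H) :=
  {pt H []} ∪ (MulAction.orbit (Hs H) (pt H [11]) ∪ MulAction.orbit (Hs H) (pt H B2))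

theorem psi_nil : psi H (pt H []) = Sum.inl () :=
  Exist24.cd_inj (by rw [psi_pt (by decide)]; rfl)

theorem orbit_kind {q : Cos H} {B : List ℕ} (hq : q ∈ MulAction.orbit (Hs H) (pt H B)) :
    ∃ p, q = jh H p • pt H B ∧ psi H q = sig H p (psi H (pt H B)) := by
  obtain ⟨⟨g, p, rfl⟩, rfl⟩ := hq
  refine ⟨p, rfl, ?_⟩
  show psi H (jh H p • pt H B) = _
  rw [psi_smul, phi_jh]

theorem reach_kind {q : Cos H} (hq : q ∈ Reach H) :
    (q = pt H [] ∧ psi H q = Sum.inl ()) ∨
    (∃ p, q = jh H p • pt H [11] ∧ ∃ c, psi H q = .inr (.inr c) ∧ psi H q = sig H p (psi H (pt H [11]))) ∨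
    (∃ p, q = jh H p • pt H B2 ∧ ∃ i, psi H q = .inr (.inl i) ∧ psi H q = sig H p (psi H (pt H B2))) := by
  rcases hq with hq | hq | hq
  · obtain rfl : q = pt H [] := hq
    exact Or.inl ⟨rfl, psi_nil H⟩
  · obtain ⟨p, hp, he⟩ := orbit_kind H hq
    refine Or.inr (Or.inl ⟨p, hp, Exist24.rho H p (Exist24.rho H (neg' 1) 0), ?_, he⟩)
    rw [he, psi_k]
    rfl
  · obtain ⟨p, hp, he⟩ := orbit_kind H hq
    refine Or.inr (Or.inr ⟨p, hp, act p.2 (Fi23.Tri.pt (Fi23.Tri.pl 0)), ?_, he⟩)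
    rw [he, psi_B2]
    rfl

/-- The point determines a reached coset. -/
theorem psi_inj : Set.InjOn (psi H) (Reach H) := by
  have key : ∀ {B : List ℕ}, (∀ p : G2, sig H p (psi H (pt H B)) = psi H (pt H B) → jh H p • pt H B = pt H B) →
      ∀ {p p' : G2}, sig H p (psi H (pt H B)) = sig H p' (psi H (pt H B)) → jh H p • pt H B = jh H p' • pt H B := by
    intro B hfix p p' h
    have := hfix (p'⁻¹ * p) (by
      rw [map_mul, map_inv, Equiv.Perm.mul_apply, h, ← Equiv.Perm.mul_apply, inv_mul_cancel]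
      rfl)
    rw [map_mul, map_inv, mul_smul, inv_smul_eq_iff] at this
    exact this
  intro a ha b hb he
  rcases reach_kind H ha with ⟨rfl, h1⟩ | ⟨p, rfl, c, h1, h1'⟩ | ⟨p, rfl, i, h1, h1'⟩ <;>
    rcases reach_kind H hb with ⟨rfl, h2⟩ | ⟨p', rfl, c', h2, h2'⟩ | ⟨p', rfl, i', h2, h2'⟩
  all_goals first
    | rfl
    | exact key (hfix1 H) (by rw [← h1', ← h2', he])
    | exact key (hfix2 H) (by rw [← h1', ← h2', he])
    | (rw [h1, h2] at he; exact absurd he (by simp))

/-- The representatives of the orbits of the letters commuting with `k`. -/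
def reps : List (List ℕ) :=
  [[], B2 ++ [1, 0], B2 ++ [1, 2, 3, 4, 5, 6, 7, 8, 3, 2, 1, 4, 3, 5, 9, 8, 3, 2, 1, 4, 3, 2, 5, 4, 6, 5, 8, 3, 4, 9, 8, 3, 2, 1, 0],
    B2, [11, 10], [11], [11, 10, 0], [11, 0], [11, 0, 1, 2, 3, 4, 5, 8, 3, 4, 9, 8, 3, 2, 1, 10, 0]]

theorem reps_codes : (List.range 9).all (fun j =>
    Nat.beq (runC (reps.getD j []) 0) (Exist24.repAt j) && (reps.getD j []).all (fun l => Nat.blt l 12)) = true := by
  decide +kernel

theorem mem_k {W : List ℕ} (hW : ∀ l ∈ W, l < 11) : pt H ([11] ++ W) ∈ Reach H := by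
  refine Or.inr (Or.inl ⟨⟨(evalWord pres.val W)⁻¹, inv_mem (word_mem H hW)⟩, ?_⟩)
  exact (pt_append H [11] W).symm

theorem mem_y {W : List ℕ} (hW : ∀ l ∈ W, l < 11) : pt H (B2 ++ W) ∈ Reach H := by
  refine Or.inr (Or.inr ⟨⟨(evalWord pres.val W)⁻¹, inv_mem (word_mem H hW)⟩, ?_⟩)
  exact (pt_append H B2 W).symm

theorem mem_nil : pt H [] ∈ Reach H := Or.inl rfl

/-- The coset of a representative and its image under `k` are reached. -/
theorem reps_reach : ∀ j < 9, pt H (reps.getD j []) ∈ Reach H ∧ pt H (reps.getD j [] ++ [11]) ∈ Reach H := by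
  have m0 : pt H [11] ∈ Reach H := mem_k H (W := []) (by decide)
  have m2 : pt H B2 ∈ Reach H := mem_y H (W := []) (by decide)
  have m6 : pt H [11, 10, 0] ∈ Reach H := mem_k H (W := [10, 0]) (by decide)
  intro j hj
  interval_cases j
  · exact ⟨mem_nil H, m0⟩
  · have h : pt H (B2 ++ [1, 0]) ∈ Reach H := mem_y H (by decide)
    refine ⟨h, ?_⟩
    have e : pt H (B2 ++ [1, 0] ++ [11]) = pt H (B2 ++ [1, 0]) := E1 H
    exact e ▸ h
  · let c : List ℕ := [1, 2, 3, 4, 5, 6, 7, 8, 3, 2, 1, 4, 3, 5, 9, 8, 3, 2, 1, 4, 3, 2, 5, 4, 6, 5, 8, 3, 4, 9, 8, 3, 2, 1]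
    have h : pt H (B2 ++ (c ++ [0])) ∈ Reach H := mem_y H (by decide)
    refine ⟨h, ?_⟩
    have a : Edge H ([11, 10, 0] ++ c) (B2 ++ c) := (E10 H).move (c9_spec (by decide))
    have q : pt H ([11] ++ (([10, 0] ++ c) ++ [0])) = pt H ([11] ++ ([10, 0] ++ c)) := eq1' H (by decide +kernel)
    have b : Edge H ([11, 10, 0] ++ c ++ [0]) (B2 ++ c) := a.congr q rfl
    have d : Edge H (B2 ++ c ++ [0]) (B2 ++ c ++ [0]) := a.symm.braid (Or.inl rfl) b
    have e : pt H (B2 ++ (c ++ [0]) ++ [11]) = pt H (B2 ++ (c ++ [0])) := by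
      rw [← List.append_assoc B2]; exact d
    exact e.symm ▸ h
  · refine ⟨m2, ?_⟩
    have e : pt H (B2 ++ [11]) = pt H [11, 10, 0] := (E10 H).symm
    exact e.symm ▸ m6
  · have h : pt H [11, 10] ∈ Reach H := mem_k H (W := [10]) (by decide)
    exact ⟨h, (show pt H ([11, 10] ++ [11]) = pt H [11, 10] from E4 H).symm ▸ h⟩
  · exact ⟨m0, (show pt H ([11] ++ [11]) = pt H [] from E0 H).symm ▸ mem_nil H⟩
  · exact ⟨m6, (show pt H ([11, 10, 0] ++ [11]) = pt H B2 from E10 H).symm ▸ m2⟩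
  · have h : pt H [11, 0] ∈ Reach H := mem_k H (W := [0]) (by decide)
    exact ⟨h, (show pt H ([11, 0] ++ [11]) = pt H [11, 0] from E8 H).symm ▸ h⟩
  · refine ⟨mem_k H (W := [0, 1, 2, 3, 4, 5, 8, 3, 4, 9, 8, 3, 2, 1, 10, 0]) (by decide), ?_⟩
    have e : pt H (([11] ++ ([0, 1, 2, 3, 4, 5, 8, 3, 4, 9, 8, 3, 2, 1, 10] ++ [0])) ++ [11]) =
        pt H ([11] ++ ([0, 1, 2, 3, 4, 5, 8, 3, 2, 4, 3, 8, 9, 8, 3, 2, 1, 4, 3, 5, 4, 8, 3, 10] ++ [0])) := E12 H
    exact e.symm ▸ mem_k H (by decide)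

theorem psi_rep {j : ℕ} (hj : j < 9) : psi H (pt H (reps.getD j [])) = Exist24.rpt j := by
  have h := List.all_eq_true.mp reps_codes j (List.mem_range.mpr hj)
  simp only [Bool.and_eq_true, List.all_eq_true] at h
  refine Exist24.cd_inj ?_
  rw [psi_pt (fun l hl => Nat.le_of_ble_eq_true (h.2 l hl)), Exist24.rpt, Exist24.cd_dc (Exist24.repAt_lt j hj)]
  exact Nat.eq_of_beq_eq_true h.1

theorem reach_jh (p : G2) {q : Cos H} (hq : q ∈ Reach H) : jh H p • q ∈ Reach H := by
  rcases hq with hq | hq | hq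
  · obtain rfl : q = pt H [] := hq
    refine Or.inl ?_
    show jh H p • (((evalWord pres.val [])⁻¹ : G) : Cos H) = (((evalWord pres.val [])⁻¹ : G) : Cos H)
    rw [MulAction.Quotient.smul_coe, QuotientGroup.eq]
    simpa [evalWord] using show (jh H p)⁻¹ ∈ Hs H from inv_mem ⟨p, rfl⟩
  · exact Or.inr (Or.inl (MulAction.mem_orbit_of_mem_orbit (⟨jh H p, p, rfl⟩ : Hs H) hq))
  · exact Or.inr (Or.inr (MulAction.mem_orbit_of_mem_orbit (⟨jh H p, p, rfl⟩ : Hs H) hq))

/-- Reached cosets stay reached under every generator. -/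
theorem reach_k : ∀ q ∈ Reach H, pres.val 11 • q ∈ Reach H := by
  have hQ : ∀ x : X, ∃ q, q ∈ Reach H ∧ psi H q = x ∧ pres.val 11 • q ∈ Reach H := by
    refine Exist24.cases_rep H _ ?_ ?_
    · rintro m h1 h10 x ⟨q, hq, rfl, hk⟩
      refine ⟨jh H (neg' (Fi23.pres.val m)) • q, reach_jh H _ hq, ?_, ?_⟩
      · rw [psi_smul, phi_jh]; rfl
      · have := reach_jh H (neg' (Fi23.pres.val m)) hk
        rw [jh_gen H h10, ← mul_smul, ← (k_comm h1 h10).eq, mul_smul] at this
        rw [jh_gen H h10]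
        exact this
    · intro j hj
      refine ⟨_, (reps_reach H j hj).1, psi_rep H hj, ?_⟩
      have h := (reps_reach H j hj).2
      rw [pt_append, show evalWord pres.val [11] = pres.val 11 from mul_one _, val_inv] at h
      exact h
  intro q hq
  obtain ⟨q', hq', he, hk⟩ := hQ (psi H q)
  exact psi_inj H hq' hq he ▸ hk

theorem reach_univ : Reach H = Set.univ := by
  have hgen : ∀ l < 12, ∀ q ∈ Reach H, pres.val l • q ∈ Reach H := by
    intro l hl q hq
    rcases Nat.lt_or_ge l 10 with h | h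
    · rw [← jh_gen H h]; exact reach_jh H _ hq
    rcases Nat.lt_or_ge l 11 with h' | h'
    · obtain rfl : l = 10 := by omega
      rw [← jh_el H]; exact reach_jh H _ hq
    · obtain rfl : l = 11 := by omega
      exact reach_k H q hq
  have hall : ∀ g : G, ∀ q ∈ Reach H, g • q ∈ Reach H ∧ g⁻¹ • q ∈ Reach H := by
    intro g
    have hg : g ∈ Subgroup.closure (pres.val '' Set.Iio pres.gens.length) := pres.closure_val ▸ Subgroup.mem_top g
    induction hg using Subgroup.closure_induction with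
    | mem x hx =>
      obtain ⟨l, hl, rfl⟩ := hx
      intro q hq
      rw [val_inv]
      exact ⟨hgen l hl q hq, hgen l hl q hq⟩
    | one => intro q hq; simpa using hq
    | mul a b _ _ ha hb =>
      intro q hq
      rw [mul_smul, mul_inv_rev, mul_smul]
      exact ⟨(ha _ (hb q hq).1).1, (hb _ (ha q hq).2).2⟩
    | inv a _ ha =>
      intro q hq
      rw [inv_inv]
      exact ⟨(ha q hq).2, (ha q hq).1⟩
  refine Set.eq_univ_of_forall fun q => ?_
  induction q using QuotientGroup.induction_on with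
  | _ g =>
    have h := (hall g _ (mem_nil H)).1
    rw [show pt H [] = ((1 : G) : Cos H) by rw [pt, evalWord, inv_one], MulAction.Quotient.smul_coe,
      smul_eq_mul, mul_one] at h
    exact h

theorem psi_bijective : Function.Bijective (psi H) := by
  refine ⟨fun a b h => psi_inj H (by rw [reach_univ]; trivial) (by rw [reach_univ]; trivial) h, fun x => ?_⟩
  obtain ⟨g, hg, hgx⟩ := Exist24.trans_all H x
  have hle : Exist24.Gm H ≤ (phi H).range := by
    refine Gm_le H ⟨pres.val 10, ?_⟩ ⟨pres.val 11, ?_⟩ fun l hl => ⟨pres.val l, ?_⟩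
    · rw [phi_val H (by omega)]; rfl
    · rw [phi_val H (by omega)]; rfl
    · rw [phi_val H (by omega), mv, if_pos hl]
  obtain ⟨g', rfl⟩ := hle hg
  exact ⟨((g' : G) : Cos H), hgx⟩

theorem Hs_index : (Hs H).index = 306936 := by
  rw [Subgroup.index, Nat.card_congr (Equiv.ofBijective _ (psi_bijective H)), Nat.card_sum, Nat.card_sum,
    Nat.card_unique, Nat.card_fin, Nat.card_fin]
  rfl

theorem phi_injective : Function.Injective (phi H) := by
  rw [injective_iff_map_eq_one]
  intro g hg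
  have hmem : g ∈ Hs H := by
    have e : psi H ((g : G) : Cos H) = psi H (((1 : G)) : Cos H) := by
      show phi H g _ = phi H 1 _
      rw [hg, map_one]
    have := QuotientGroup.eq.mp ((psi_bijective H).1 e)
    simpa using this
  obtain ⟨p, rfl⟩ := hmem
  rw [phi_jh] at hg
  rw [(Exist24.sig_injective H) (hg.trans (map_one _).symm), map_one]

end Cfsg.Agent.CosetEnum.Fi24
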