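import Cfsg.Agent.SporB.Fi24.Node

/-!
The stabilisers of the cosets of `k` and of the transposition next to it, before the closing relation is used.
-/

set_option autoImplicit false
set_option maxRecDepth 100000
set_option linter.unusedSectionVars false

namespace Cfsg.Agent.CosetEnum.Fi24
open Cfsg.Agent.Exist24 (X G2 sig neg' gen el kP cd dc oX aX Kset lC gC kC Checked)
open Cfsg.Agent.CosetEnum.Fi23.Tri (act)

variable {H : Checked}

include H in
/-- The stabiliser of the base signed pair. -/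
theorem stab_oX {p : G2} (hp : sig H p oX = oX) : p ∈ Subgroup.closure Kset := by
  haveI := Fi23.finite
  letI : MulAction G2 X := MulAction.compHom _ (sig H)
  set S := MulAction.stabilizer G2 oX with hS
  have hgen : ∀ q ∈ Kset, sig H q oX = oX := by
    rintro q (rfl | ⟨l, hl, rfl⟩)
    · refine Exist24.cd_inj ?_
      show cd (Exist24.gY H oX) = cd oX
      rw [Exist24.cd_Y, Exist24.cd_oX, Exist24.fix_codes.2]
    · obtain ⟨-, h10⟩ := Exist24.L0l_range l hl
      refine Exist24.cd_inj ?_
      show cd (gen H l oX) = cd oX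
      rw [Exist24.cd_gen H h10, Exist24.cd_oX]
      exact Nat.eq_of_beq_eq_true (List.all_eq_true.mp Exist24.fix_codes.1 l hl)
  have hle : Subgroup.closure Kset ≤ S := (Subgroup.closure_le _).2 fun q hq => hgen q hq
  have horb : MulAction.orbit G2 oX = Set.range (fun c : Exist24.Sp => (.inr (.inr c) : X)) := by
    ext x
    constructor
    · rintro ⟨q, rfl⟩; exact ⟨Exist24.rho H q 0, rfl⟩
    · rintro ⟨c, rfl⟩
      obtain ⟨q, hq⟩ := Exist24.trans_sp H c
      exact ⟨q, hq⟩
  have hidx : S.index = 275264 := by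
    rw [hS, MulAction.index_stabilizer, horb,
      Set.ncard_range_of_injective (fun a b h => Sum.inr_injective (Sum.inr_injective h)), Nat.card_fin]
  have hcard : Nat.card S = 29713078886400 := by
    have h := Subgroup.card_mul_index S
    rw [hidx, Nat.card_prod, Fi23.card_eq, Nat.card_eq_fintype_card (α := ℤˣ), Fintype.card_units_int] at h
    omega
  have hmap : (Subgroup.closure Kset).map (MonoidHom.snd _ _) = Fi23.Tri.L := by
    rw [MonoidHom.map_closure, Fi23.Tri.L, Fi23.Tri.Lset, Kset, Set.image_insert_eq, Set.image_image]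
    rfl
  have heq : Subgroup.closure Kset = S := by
    refine Subgroup.eq_of_le_of_card_ge hle ?_
    rw [hcard, ← Fi23.Tri.card_L, ← hmap]
    exact Nat.le_of_dvd Nat.card_pos (Subgroup.card_map_dvd _ _)
  exact heq ▸ hp

theorem snd_L {p : G2} (hp : p ∈ Subgroup.closure Kset) : p.2 ∈ Fi23.Tri.L := by
  have hmap : (Subgroup.closure Kset).map (MonoidHom.snd _ _) = Fi23.Tri.L := by
    rw [MonoidHom.map_closure, Fi23.Tri.L, Fi23.Tri.Lset, Kset, Set.image_insert_eq, Set.image_image]
    rfl
  exact hmap ▸ ⟨p, hp, rfl⟩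

/-- The lifts of the letters commuting with `k`. -/
noncomputable def K9 : Subgroup G2 :=
  Subgroup.closure ((fun l => neg' (Fi23.pres.val l)) '' {l | l ∈ Fi23.Tri.L0l})

theorem jh_K9 {q : G2} (hq : q ∈ K9) : Commute (pres.val 11) (jh H q) := by
  unfold K9 at hq
  induction hq using Subgroup.closure_induction with
  | mem q hq =>
    obtain ⟨l, hl, rfl⟩ := hq
    obtain ⟨h1, h10⟩ := Exist24.L0l_range l hl
    rw [jh_gen H h10]
    exact k_comm h1 h10
  | one => rw [map_one]; exact Commute.one_right _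
  | mul a b _ _ ha hb => rw [map_mul]; exact ha.mul_right hb
  | inv a _ ha => rw [map_inv]; exact ha.inv_right

/-- The check of equality of two cosets of `k`. -/
noncomputable def chk1 (U V : List ℕ) : Bool :=
  U.all (fun l => Nat.blt l 11) && V.all (fun l => Nat.blt l 11) &&
    Nat.beq (runC (11 :: U) 0) (runC (11 :: V) 0) &&
    Nat.beq (Fi23.Tri.lb (runC (U ++ V.reverse) 1 - 1)) 0

theorem base_codes : runC [11] 0 = lC 31672 ∧ runC [11, 10, 0, 11] 0 = 1 + Fi23.Tri.pl 0 := by
  refine ⟨?_, ?_⟩ <;> decide +kernel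

theorem psi_k : psi H (pt H [11]) = el H oX :=
  Exist24.cd_inj (by rw [psi_pt (by decide), base_codes.1, Exist24.cd_el, Exist24.cd_oX])

theorem fix_k {p : G2} (hp : sig H p (el H oX) = el H oX) : sig H p oX = oX := by
  rw [← Equiv.Perm.mul_apply, ← (Exist24.el_comm H p).eq, Equiv.Perm.mul_apply] at hp
  exact (el H).injective hp

/-- Equality of cosets of `k`, before the closing relation is used. -/
theorem eq1 {U V : List ℕ} (h : chk1 U V = true) : pt H ([11] ++ U) = pt H ([11] ++ V) := by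
  simp only [chk1, Bool.and_eq_true, List.all_eq_true] at h
  obtain ⟨⟨⟨hU, hV⟩, hrun⟩, hlb⟩ := h
  have hU' : ∀ l ∈ U, l < 11 := fun l hl => Nat.le_of_ble_eq_true (hU l hl)
  have hV' : ∀ l ∈ V, l < 11 := fun l hl => Nat.le_of_ble_eq_true (hV l hl)
  have hg : ∀ l ∈ U ++ V.reverse, l < 11 := fun l hl =>
    (List.mem_append.mp hl).elim (hU' l) fun h => hV' l (List.mem_reverse.mp h)
  obtain ⟨p, hp⟩ := word_mem H hg
  have hp' : jh H p = evalWord pres.val U * (evalWord pres.val V)⁻¹ := by
    rw [hp, evalWord_append, eval_reverse]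
  -- the element fixes the point of `k`
  have he : psi H (pt H ([11] ++ U)) = psi H (pt H ([11] ++ V)) := by
    refine Exist24.cd_inj ?_
    rw [psi_pt (fun l hl => ?_), psi_pt (fun l hl => ?_)]
    · exact Nat.eq_of_beq_eq_true hrun
    all_goals
      rcases List.mem_append.mp hl with h | h
      · simp at h; omega
    · have := hV' l h; omega
    · have := hU' l h; omega
  rw [pt_append, pt_append, psi_smul, psi_smul, psi_k] at he
  have hx : sig H p (el H oX) = el H oX := by
    rw [← phi_jh, hp', map_mul, Equiv.Perm.mul_apply, ← he, ← Equiv.Perm.mul_apply, ← map_mul, mul_inv_cancel,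
      map_one]
    rfl
  have hfix := fix_k hx
  have hL := snd_L (stab_oX hfix)
  -- the label of the image of the base point
  set b : Fi23.Tri.Pt := Fi23.rep.base
  have hb : cd (.inr (.inl b) : X) = 1 := rfl
  have himg : runC (U ++ V.reverse) 1 = 1 + ((act p.2⁻¹ b : Fi23.Tri.Pt) : ℕ) := by
    rw [← hb, ← cd_run H (U ++ V.reverse) (.inr (.inl b)), ← phi_word H (fun l hl => by have := hg l hl; omega), ← hp,
      phi_jh, ← map_inv, Exist24.sig_pt]
    rfl
  rw [himg, show 1 + ((act p.2⁻¹ b : Fi23.Tri.Pt) : ℕ) - 1 = ((act p.2⁻¹ b : Fi23.Tri.Pt) : ℕ) by omega] at hlb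
  obtain ⟨c, hc, hcb⟩ := Fi23.Tri.trans_zero _ (Nat.eq_of_beq_eq_true hlb)
  have hL0 : p.2 ∈ Fi23.Tri.L0 := by
    have h1 : c⁻¹ * p.2⁻¹ ∈ Fi23.H := by
      rw [Fi23.Tri.mem_H_iff, map_mul, Equiv.Perm.mul_apply, ← hcb, ← Equiv.Perm.mul_apply, ← map_mul,
        inv_mul_cancel, map_one]
      rfl
    have h2 : c⁻¹ * p.2⁻¹ ∈ Fi23.Tri.L0 := Fi23.Tri.G1_le_L0 (Fi23.Tri.L_inf_H ▸
      Subgroup.mem_inf.mpr ⟨mul_mem (inv_mem (Fi23.Tri.L0_le hc)) (inv_mem hL), h1⟩)
    have := inv_mem (mul_mem hc h2)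
    simpa using this
  have hmap : K9.map (MonoidHom.snd ℤˣ Fi23.pres.Gp) = Fi23.Tri.L0 := by
    rw [K9, MonoidHom.map_closure, Set.image_image]
    rfl
  obtain ⟨q, hq, hqp⟩ := hmap.symm ▸ hL0
  have hqfix : sig H q oX = oX := by
    letI : MulAction G2 X := MulAction.compHom _ (sig H)
    have hle : K9 ≤ MulAction.stabilizer G2 oX := by
      rw [K9, Subgroup.closure_le]
      rintro _ ⟨l, hl, rfl⟩
      obtain ⟨-, h10⟩ := Exist24.L0l_range l hl
      refine Exist24.cd_inj ?_
      show cd (gen H l oX) = cd oX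
      rw [Exist24.cd_gen H h10, Exist24.cd_oX]
      exact Nat.eq_of_beq_eq_true (List.all_eq_true.mp Exist24.fix_codes.1 l hl)
    exact hle hq
  have hpq : p = q := by
    obtain ⟨u, g⟩ := p
    obtain ⟨v, g'⟩ := q
    obtain rfl : g' = g := hqp
    rcases Int.units_eq_one_or u with rfl | rfl <;> rcases Int.units_eq_one_or v with rfl | rfl
    · rfl
    · exfalso
      have e : ((-1 : ℤˣ), g') = neg' 1 * (1, g') := by ext <;> simp [neg']
      rw [e, map_mul, Equiv.Perm.mul_apply, hfix] at hqfix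
      exact Exist24.el_flip H 0 hqfix
    · exfalso
      have e : ((-1 : ℤˣ), g') = neg' 1 * (1, g') := by ext <;> simp [neg']
      rw [e, map_mul, Equiv.Perm.mul_apply, hqfix] at hfix
      exact Exist24.el_flip H 0 hfix
    · rfl
  have hcomm : Commute (pres.val 11) (evalWord pres.val (U ++ V.reverse)) := hp ▸ hpq ▸ jh_K9 hq
  rw [← pt_drop H hg ([11] ++ V)]
  refine pt_eval H ?_
  have e := hcomm.eq
  simp only [evalWord_append, eval_reverse, show evalWord pres.val [11] = pres.val 11 from mul_one _] at e ⊢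
  rw [← mul_assoc _ (pres.val 11) _, ← e, mul_assoc, mul_assoc, inv_mul_cancel, mul_one]

end Cfsg.Agent.CosetEnum.Fi24
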