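import Cfsg.Agent.Lib.CosetEnum.Cox
import Cfsg.Agent.Exist24.Type24
import Cfsg.Prelude.Def_Spor_Fi24

/-!
The presented `Fi24` acting on the 306936 points of the transposition model.
-/

set_option autoImplicit false
set_option maxRecDepth 100000
set_option linter.unusedSectionVars false

namespace Cfsg.Agent.CosetEnum.Fi24
open Cfsg.Agent.Exist24 (X G2 sig neg' gen el kP cd dc cd_gen cd_el cd_k Checked gC lC kC)

/-- The generators in the order of the letters. -/
def genList : List Cfsg.Spor.Fi24.Gen := [.a, .b, .c, .d, .e, .f, .g, .j, .h, .i, .l, .k]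

/-- The extra relators as words. -/
def extraWords : List (List ℕ) :=
  [repWord [0, 1, 2, 3, 4, 5, 8] 9 ++ [10], repWord [3, 2, 1, 0, 11, 10, 3, 4, 5, 6, 7, 3, 8, 9] 17]

theorem words_iff (A : Type) [Group A] (v : Cfsg.Spor.Fi24.Gen → A) (hv : ∀ x, v x * v x = 1) :
    (∀ r ∈ Cfsg.Spor.Fi24.extra, FreeGroup.lift v r = 1) ↔
      ∀ W ∈ extraWords, evalWord (letterVal genList v) W = 1 := by
  have h0 : letterVal genList v 0 = v .a := rfl
  have h1 : letterVal genList v 1 = v .b := rfl
  have h2 : letterVal genList v 2 = v .c := rfl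
  have h3 : letterVal genList v 3 = v .d := rfl
  have h4 : letterVal genList v 4 = v .e := rfl
  have h5 : letterVal genList v 5 = v .f := rfl
  have h6 : letterVal genList v 6 = v .g := rfl
  have h7 : letterVal genList v 7 = v .j := rfl
  have h8 : letterVal genList v 8 = v .h := rfl
  have h9 : letterVal genList v 9 = v .i := rfl
  have h10 : letterVal genList v 10 = v .l := rfl
  have h11 : letterVal genList v 11 = v .k := rfl
  have hl : ∀ M : A, v .l * M⁻¹ = 1 ↔ M * v .l = 1 := fun M => by
    rw [mul_inv_eq_one, mul_eq_one_iff_eq_inv, inv_eq_of_mul_eq_one_right (hv .l), eq_comm]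
  simp [Cfsg.Spor.Fi24.extra, extraWords, evalWord, evalWord_append, evalWord_repWord, hl, h0, h1, h2, h3, h4, h5, h6,
    h7, h8, h9, h10, h11, mul_assoc]

/-- The presentation. -/
def pres : InvPres Cfsg.Spor.Fi24.Gen where
  edges := Cfsg.Spor.Fi24.edges
  extra := Cfsg.Spor.Fi24.extra
  gens := genList
  words := extraWords
  all_gens x := by cases x <;> decide
  all_nodes x := by cases x <;> decide
  words_iff := words_iff

/-- The presented group. -/
abbrev G : Type := pres.Gp

theorem nodup : genList.Nodup := by decide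

theorem val_sq (l : ℕ) : pres.val l * pres.val l = 1 := by
  rcases Nat.lt_or_ge l genList.length with h | h
  · rw [InvPres.val, letterVal_of_lt _ _ (show l < pres.gens.length from h)]
    exact pres.sq_val _
  · simp [InvPres.val, letterVal, show pres.gens[l]? = none from List.getElem?_eq_none_iff.mpr h]

theorem val_inv (l : ℕ) : (pres.val l)⁻¹ = pres.val l := inv_eq_of_mul_eq_one_right (val_sq l)

theorem eval_reverse : ∀ W : List ℕ, evalWord pres.val W.reverse = (evalWord pres.val W)⁻¹
  | [] => by simp [evalWord]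
  | l :: W => by
    rw [List.reverse_cons, evalWord_append, eval_reverse W]
    show _ * (pres.val l * 1) = (pres.val l * evalWord pres.val W)⁻¹
    rw [mul_one, mul_inv_rev, val_inv]

/-- The letters of `Fi23` in a word. -/
def strip (W : List ℕ) : List ℕ := W.filter fun l => Nat.blt l 10

theorem strip_lt {l : ℕ} (W : List ℕ) (h : l < 10) : strip (l :: W) = l :: strip W := by
  simp [strip, List.filter, show Nat.blt l 10 = true from Nat.ble_eq.mpr h]

theorem strip_ge (W : List ℕ) : strip (10 :: W) = strip W := rfl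

/-- A word that is trivial in `{±1} × Fi23`. -/
noncomputable def triv (W : List ℕ) : Bool :=
  W.all (fun l => Nat.blt l 11) && Nat.beq (W.length % 2) 0 && Exist24.uStep (strip W) []

variable (H : Checked)

/-- The letters on the points. -/
noncomputable def mv (l : ℕ) : Equiv.Perm X :=
  if l < 10 then gen H l else if l = 10 then el H else if l = 11 then kP H else 1

theorem mv_sq (l : ℕ) : mv H l * mv H l = 1 := by
  unfold mv
  split_ifs
  exacts [Exist24.gen_sq H l, Exist24.el_sq H, Exist24.k_sq H, one_mul 1]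

theorem mv_word : ∀ {W : List ℕ}, (∀ l ∈ W, l < 11) →
    evalWord (mv H) W = sig H ((-1) ^ W.length, evalWord Fi23.pres.val (strip W))
  | [], _ => (map_one _).symm
  | l :: W, h => by
    rw [evalWord, mv_word (fun x hx => h x (List.mem_cons_of_mem _ hx))]
    have hl := h l List.mem_cons_self
    rcases Nat.lt_or_ge l 10 with h10 | h10
    · rw [mv, if_pos h10, gen, ← map_mul, strip_lt W h10]
      congr 1
      ext
      · simp [neg', pow_succ']
      · rfl
    · obtain rfl : l = 10 := by omega
      rw [mv, if_neg (by omega), if_pos rfl, el, ← map_mul, strip_ge]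
      congr 1
      ext
      · simp [neg', pow_succ']
      · simp [neg']

theorem triv_spec {W : List ℕ} (h : triv W = true) :
    (∀ l ∈ W, l < 11) ∧ ((-1 : ℤˣ) ^ W.length = 1) ∧ evalWord Fi23.pres.val (strip W) = 1 := by
  simp only [triv, Bool.and_eq_true, List.all_eq_true] at h
  exact ⟨fun l hl => Nat.le_of_ble_eq_true (h.1.1 l hl),
    (Nat.even_iff.mpr (Nat.eq_of_beq_eq_true h.1.2)).neg_one_pow, (Exist24.word_ext h.2).trans rfl⟩

theorem triv_model {W : List ℕ} (h : triv W = true) : evalWord (mv H) W = 1 := by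
  obtain ⟨hlt, hp, he⟩ := triv_spec h
  rw [mv_word H hlt, hp, he]
  exact map_one _

/-- The value of a generator. -/
noncomputable def vM (x : Cfsg.Spor.Fi24.Gen) : Equiv.Perm X := mv H (genList.idxOf x)

theorem vM_word : ∀ {W : List ℕ}, (∀ l ∈ W, l < 12) →
    evalWord (letterVal pres.gens (vM H)) W = evalWord (mv H) W
  | [], _ => rfl
  | l :: W, h => by
    have hl : l < pres.gens.length := h l List.mem_cons_self
    rw [evalWord, evalWord, vM_word (fun x hx => h x (List.mem_cons_of_mem _ hx)), letterVal_of_lt _ _ hl, vM]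
    congr 2
    exact nodup.idxOf_getElem l hl

/-- The Coxeter words with `k` and the closing word, sorted by hand. -/
def kWords : List (List ℕ) :=
  [[11, 11], [11, 0, 11, 0, 11, 0], [0, 11, 0, 11, 0, 11], [11, 10, 11, 10, 11, 10], [10, 11, 10, 11, 10, 11],
    repWord [3, 2, 1, 0, 11, 10, 3, 4, 5, 6, 7, 3, 8, 9] 17] ++
  ((List.range 9).map fun j => [11, j + 1, 11, j + 1]) ++ ((List.range 9).map fun j => [j + 1, 11, j + 1, 11])

theorem rel_cover : pres.relWords.all (fun W =>
    W.all (fun l => Nat.blt l 12) && (triv W || decide (W ∈ kWords))) = true := by decide +kernel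

/-- The codes of the points of the twelve transpositions. -/
def twelve : List ℕ := [0, 31672] ++ ((List.range 10).map fun l => 1 + Fi23.Tri.pl l)

/-- A letter on the codes. -/
noncomputable def mC (i l : ℕ) : ℕ :=
  forceNat i fun i => bif Nat.blt l 10 then gC l i else bif Nat.beq l 10 then lC i else bif Nat.beq l 11 then kC i else i

/-- A word on the codes, the first letter first. -/
noncomputable def runC (W : List ℕ) : ℕ → ℕ :=
  List.rec (motive := fun _ => ℕ → ℕ) (fun i => i) (fun l _ ih i => ih (mC i l)) W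

theorem z_fix : twelve.all (fun i =>
    Nat.beq (runC (repWord [3, 2, 1, 0, 11, 10, 3, 4, 5, 6, 7, 3, 8, 9] 17) i) i) = true := by decide +kernel

theorem cd_mv {l : ℕ} (x : X) : cd (mv H l x) = mC (cd x) l := by
  rw [mC, forceNat_eq, mv]
  rcases Nat.lt_or_ge l 10 with h | h
  · rw [if_pos h, show Nat.blt l 10 = true from Nat.ble_eq.mpr h, cond_true, cd_gen H h]
  · rw [if_neg (by omega), show Nat.blt l 10 = false from Bool.eq_false_iff.mpr fun hb => absurd (Nat.le_of_ble_eq_true hb) (by omega), cond_false]
    by_cases h10 : l = 10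
    · subst h10; rw [if_pos rfl]; exact cd_el H x
    · rw [if_neg h10, show Nat.beq l 10 = false from Bool.eq_false_iff.mpr fun hb => h10 (Nat.eq_of_beq_eq_true hb), cond_false]
      by_cases h11 : l = 11
      · subst h11; rw [if_pos rfl]; exact cd_k H x
      · rw [if_neg h11, show Nat.beq l 11 = false from Bool.eq_false_iff.mpr fun hb => h11 (Nat.eq_of_beq_eq_true hb)]
        rfl

theorem mv_inv (l : ℕ) : (mv H l)⁻¹ = mv H l := inv_eq_of_mul_eq_one_right (mv_sq H l)

theorem cd_run : ∀ (W : List ℕ) (x : X), cd ((evalWord (mv H) W)⁻¹ x) = runC W (cd x)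
  | [], x => by simp [evalWord, runC]
  | l :: W, x => by
    rw [evalWord, mul_inv_rev, Equiv.Perm.mul_apply, cd_run W, mv_inv, cd_mv]
    rfl

theorem mv_mem (l : ℕ) : mv H l ∈ Exist24.Gm H := by
  unfold mv
  split_ifs with h
  exacts [Exist24.gen_mem H h, Exist24.el_mem H, Exist24.k_mem H, one_mem _]

theorem Gm_le {K : Subgroup (Equiv.Perm X)} (hel : el H ∈ K) (hk : kP H ∈ K) (hg : ∀ l < 10, gen H l ∈ K) :
    Exist24.Gm H ≤ K := by
  have hs : ∀ p : G2, sig H p ∈ K := by
    have h1 : ∀ g : Fi23.pres.Gp, sig H ((1 : ℤˣ), g) ∈ K := by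
      have htop : (K.comap (sig H)).comap (MonoidHom.inr ℤˣ Fi23.pres.Gp) = ⊤ := by
        rw [eq_top_iff, ← Fi23.pres.closure_val, Subgroup.closure_le]
        rintro _ ⟨l, hl, rfl⟩
        show sig H ((1 : ℤˣ), Fi23.pres.val l) ∈ K
        rw [Exist24.sig_one_pair]
        exact mul_mem hel (hg l hl)
      intro g
      have := htop ▸ Subgroup.mem_top g
      exact this
    rintro ⟨u, g⟩
    rcases Int.units_eq_one_or u with rfl | rfl
    · exact h1 g
    · rw [show sig H ((-1 : ℤˣ), g) = el H * sig H (1, g) by rw [el, ← map_mul]; congr 1; ext <;> simp [neg']]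
      exact mul_mem hel (h1 g)
  rw [Exist24.Gm, Subgroup.closure_le]
  rintro _ ⟨u | i | c, rfl⟩
  · exact hel
  · exact hs _
  · exact mul_mem (mul_mem (hs _) hk) (inv_mem (hs _))

theorem word_mem_Gm : ∀ W : List ℕ, evalWord (mv H) W ∈ Exist24.Gm H
  | [] => one_mem _
  | l :: W => mul_mem (mv_mem H l) (word_mem_Gm W)

/-- A word fixing the twelve points is trivial on the points. -/
theorem model_of_twelve (W : List ℕ) (hW : twelve.all (fun i => Nat.beq (runC W i) i) = true) :
    evalWord (mv H) W = 1 := by
  have hwm := word_mem_Gm H W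
  have hfix : ∀ x : X, cd x ∈ twelve →
      evalWord (mv H) W * Exist24.tP H x = Exist24.tP H x * evalWord (mv H) W := by
    intro x hx
    have h1 : (evalWord (mv H) W)⁻¹ x = x := Exist24.cd_inj (by
      rw [cd_run]
      exact Nat.eq_of_beq_eq_true (List.all_eq_true.mp hW _ hx))
    have h2 := Exist24.tP_conj H hwm x
    rw [show evalWord (mv H) W x = x from (Equiv.Perm.inv_eq_iff_eq.mp h1).symm] at h2
    exact mul_inv_eq_iff_eq_mul.mp h2
  generalize evalWord (mv H) W = w at hwm hfix
  have hC : Exist24.Gm H ≤ Subgroup.centralizer {w} := by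
    refine Gm_le H ?_ ?_ ?_
    · exact Subgroup.mem_centralizer_singleton_iff.mpr (hfix (Sum.inl ()) (List.mem_cons_self ..)).symm
    · rw [← Exist24.tP_oX]
      exact Subgroup.mem_centralizer_singleton_iff.mpr
        (hfix Exist24.oX (List.mem_cons_of_mem _ (List.mem_cons_self ..))).symm
    · intro l hl
      have he : gen H l = Exist24.tP H (.inr (.inl (Fi23.Tri.pt (Fi23.Tri.pl l)))) := by
        show gen H l = sig H (neg' (Fi23.Tri.dT _))
        rw [← Fi23.Tri.letter_point l hl]
        rfl
      rw [he]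
      refine Subgroup.mem_centralizer_singleton_iff.mpr (hfix _ ?_).symm
      rw [Exist24.cd_pt (Fi23.Tri.pl_lt l hl)]
      exact List.mem_append_right _ (List.mem_map.mpr ⟨l, List.mem_range.mpr hl, rfl⟩)
  have hc : (⟨w, hwm⟩ : Exist24.Gm H) ∈ Subgroup.center (Exist24.Gm H) :=
    Subgroup.mem_center_iff.mpr fun g => Subtype.ext (Subgroup.mem_centralizer_singleton_iff.mp (hC g.2))
  rw [Exist24.center24, Subgroup.mem_bot] at hc
  exact congrArg Subtype.val hc

theorem z_model : evalWord (mv H) (repWord [3, 2, 1, 0, 11, 10, 3, 4, 5, 6, 7, 3, 8, 9] 17) = 1 :=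
  model_of_twelve H _ z_fix

/-- A commutation relator is trivial. -/
theorem comm4 {A : Type*} [Group A] {x y : A} (hx : x * x = 1) (hy : y * y = 1) (h : Commute x y) :
    x * (y * (x * (y * 1))) = 1 := by
  rw [mul_one, ← mul_assoc y x y, ← h.eq, mul_assoc x y y, hy, mul_one, hx]

theorem rels_model : ∀ W ∈ pres.relWords, evalWord (letterVal pres.gens (vM H)) W = 1 := by
  intro W hW
  have h := List.all_eq_true.mp rel_cover W hW
  rw [Bool.and_eq_true, Bool.or_eq_true, decide_eq_true_eq, List.all_eq_true] at h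
  rw [vM_word H fun l hl => Nat.le_of_ble_eq_true (h.1 l hl)]
  rcases h.2 with h2 | h2
  · exact triv_model H h2
  have k0 : mv H 0 = gen H 0 := rfl
  have k10 : mv H 10 = el H := rfl
  have k11 : mv H 11 = kP H := rfl
  have ba := Exist24.braid_a H
  have bl := Exist24.braid_el H
  have kk := Exist24.k_sq H
  have aa := Exist24.gen_sq H 0
  have ll := Exist24.el_sq H
  have tri : ∀ {x y : Equiv.Perm X}, x * x = 1 → y * y = 1 → x * y * x = y * x * y →
      x * (y * (x * (y * (x * (y * 1))))) = 1 := by
    intro x y hx hy h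
    calc x * (y * (x * (y * (x * (y * 1))))) = (x * y * x) * (y * x * y) := by simp only [mul_assoc, mul_one]
      _ = (y * x * y) * (y * x * y) := by rw [h]
      _ = y * x * (y * y) * x * y := by simp only [mul_assoc]
      _ = y * (x * x) * y := by rw [hy]; simp only [mul_assoc, one_mul, mul_one]
      _ = 1 := by rw [hx, mul_one, hy]
  simp only [kWords, List.mem_append, List.mem_cons, List.not_mem_nil, or_false, List.mem_map, List.mem_range] at h2
  rcases h2 with (((rfl | rfl | rfl | rfl | rfl | rfl) | ⟨j, hj, rfl⟩) | ⟨j, hj, rfl⟩)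
  · simpa [evalWord, k11] using kk
  · simp only [evalWord, k0, k11]; exact tri kk aa ba
  · simp only [evalWord, k0, k11]; exact tri aa kk ba.symm
  · simp only [evalWord, k10, k11]; exact tri kk ll bl
  · simp only [evalWord, k10, k11]; exact tri ll kk bl.symm
  · exact z_model H
  · have hg : mv H (j + 1) = gen H (j + 1) := if_pos (by omega)
    simp only [evalWord, k11, hg]
    exact comm4 kk (Exist24.gen_sq H _) (Exist24.k_letter H (by omega) (by omega))
  · have hg : mv H (j + 1) = gen H (j + 1) := if_pos (by omega)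
    simp only [evalWord, k11, hg]
    exact comm4 (Exist24.gen_sq H _) kk (Exist24.k_letter H (by omega) (by omega)).symm

/-- The action of the presented group. -/
noncomputable def phi : G →* Equiv.Perm X := PresentedGroup.toGroup (pres.kills (vM H) (rels_model H))

theorem phi_val {l : ℕ} (hl : l < 12) : phi H (pres.val l) = mv H l := by
  have hl' : l < pres.gens.length := hl
  rw [InvPres.val, letterVal_of_lt _ _ hl', phi, PresentedGroup.toGroup.of, vM]
  congr 1
  exact nodup.idxOf_getElem l hl'

theorem phi_word : ∀ {W : List ℕ}, (∀ l ∈ W, l < 12) → phi H (evalWord pres.val W) = evalWord (mv H) W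
  | [], _ => map_one _
  | l :: W, h => by
    rw [evalWord, evalWord, map_mul, phi_val H (h l List.mem_cons_self),
      phi_word fun x hx => h x (List.mem_cons_of_mem _ hx)]

end Cfsg.Agent.CosetEnum.Fi24
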