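import Cfsg.Agent.SporB.Fi24.Spider

/-!
The cosets of the subgroup generated by all letters but `k`, and their images among the points.
-/

set_option autoImplicit false
set_option maxRecDepth 100000
set_option linter.unusedSectionVars false

namespace Cfsg.Agent.CosetEnum.Fi24
open Cfsg.Agent.Exist24 (X G2 sig neg' gen el kP cd dc oX Checked)
open Cfsg.Agent.CosetEnum.Fi23.Tri (act)

variable {H : Checked}

theorem comm_of_rel {a b : ℕ} (h : [a, b, a, b] ∈ pres.relWords) : Commute (pres.val a) (pres.val b) := by
  have e := pres.rel_val _ h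
  simp only [evalWord, mul_one] at e
  show pres.val a * pres.val b = pres.val b * pres.val a
  calc pres.val a * pres.val b
      = pres.val a * (pres.val b * (pres.val a * pres.val b)) * ((pres.val b)⁻¹ * (pres.val a)⁻¹) := by group
    _ = pres.val b * pres.val a := by rw [e, one_mul, val_inv, val_inv]

theorem l_comm : ∀ {l : ℕ}, l < 11 → Commute (pres.val 10) (pres.val l) := by
  intro l hl
  rcases Nat.lt_or_ge l 10 with h | h
  · exact comm_of_rel ((by decide +kernel : ∀ m < 10, [10, m, 10, m] ∈ pres.relWords) l h)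
  · obtain rfl : l = 10 := by omega
    exact Commute.refl _

theorem k_comm {l : ℕ} (h1 : 1 ≤ l) (h : l < 10) : Commute (pres.val 11) (pres.val l) :=
  comm_of_rel ((by decide +kernel : ∀ m < 10, 1 ≤ m → [11, m, 11, m] ∈ pres.relWords) l h h1)

/-- The value of a letter of `Fi23`, made even by the central letter. -/
noncomputable def vG (x : Cfsg.Spor.Fi23.Gen) : G := pres.val (Fi23.pres.gens.idxOf x) * pres.val 10

theorem vG_word : ∀ {W : List ℕ}, (∀ l ∈ W, l < 10) →
    evalWord (letterVal Fi23.pres.gens vG) W = evalWord pres.val W * pres.val 10 ^ W.length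
  | [], _ => (one_mul _).symm
  | l :: W, h => by
    have hl : l < 10 := h l List.mem_cons_self
    have hW : ∀ x ∈ W, x < 10 := fun x hx => h x (List.mem_cons_of_mem _ hx)
    have hcomm : Commute (pres.val 10) (evalWord pres.val W) := by
      clear hl h
      induction W with
      | nil => exact Commute.one_right _
      | cons m W ih => exact (l_comm (l := m) (by have := hW m List.mem_cons_self; omega)).mul_right (ih fun x hx => hW x (List.mem_cons_of_mem _ hx))
    have hl' : l < Fi23.pres.gens.length := hl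
    rw [evalWord, evalWord, vG_word hW, letterVal_of_lt _ _ hl', vG, Fi23.nodup.idxOf_getElem l hl',
      List.length_cons, pow_succ']
    simp only [mul_assoc]
    rw [← mul_assoc (pres.val 10) (evalWord pres.val W), hcomm.eq, mul_assoc]

theorem pow_ten : ∀ n : ℕ, n % 2 = 0 → pres.val 10 ^ n = 1 := by
  intro n hn
  obtain ⟨m, rfl⟩ := Nat.dvd_of_mod_eq_zero hn
  rw [pow_mul, pow_two, val_sq, one_pow]

theorem cover23 : Fi23.pres.relWords.all (fun W => W.all (fun l => Nat.blt l 10) &&
    (decide (W = repWord [0, 1, 2, 3, 4, 5, 8] 9) || decide (W = repWord [3, 2, 1, 3, 4, 5, 3, 8, 9] 10) ||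
      (Nat.beq (W.length % 2) 0 && decide (W ∈ pres.relWords)))) = true := by decide +kernel

include H in
theorem rels23 : ∀ W ∈ Fi23.pres.relWords, evalWord (letterVal Fi23.pres.gens vG) W = 1 := by
  intro W hW
  have h := List.all_eq_true.mp cover23 W hW
  simp only [Bool.and_eq_true, Bool.or_eq_true, decide_eq_true_eq, List.all_eq_true] at h
  rw [vG_word fun l hl => Nat.le_of_ble_eq_true (h.1 l hl)]
  rcases h.2 with (rfl | rfl) | ⟨he, hm⟩
  · have h1 := pres.rel_val (repWord [0, 1, 2, 3, 4, 5, 8] 9 ++ [10]) (by decide +kernel)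
    rw [evalWord_append] at h1
    rw [show (repWord [0, 1, 2, 3, 4, 5, 8] 9).length = 63 from rfl, show 63 = 62 + 1 from rfl, pow_succ,
      pow_ten 62 rfl, one_mul]
    simpa [evalWord] using h1
  · rw [spider H, one_mul]
    exact pow_ten _ rfl
  · rw [pres.rel_val W hm, one_mul]
    exact pow_ten _ (Nat.eq_of_beq_eq_true he)

variable (H)

/-- `Fi23` inside the presented group. -/
noncomputable def iota : Fi23.pres.Gp →* G := PresentedGroup.toGroup (Fi23.pres.kills vG (rels23 (H := H)))

theorem iota_val {l : ℕ} (hl : l < 10) : iota H (Fi23.pres.val l) = pres.val l * pres.val 10 := by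
  have hl' : l < Fi23.pres.gens.length := hl
  rw [InvPres.val, letterVal_of_lt _ _ hl', iota, PresentedGroup.toGroup.of, vG,
    Fi23.nodup.idxOf_getElem l hl']

theorem iota_comm (g : Fi23.pres.Gp) : Commute (pres.val 10) (iota H g) := by
  have htop : (Subgroup.centralizer {pres.val 10}).comap (iota H) = ⊤ := by
    rw [eq_top_iff, ← Fi23.pres.closure_val, Subgroup.closure_le]
    rintro _ ⟨l, hl, rfl⟩
    show iota H (Fi23.pres.val l) ∈ Subgroup.centralizer {pres.val 10}
    rw [Subgroup.mem_centralizer_singleton_iff, iota_val H hl]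
    exact ((l_comm (by have : l < 10 := hl; omega)).mul_right (Commute.refl _)).eq.symm
  have hg : iota H g ∈ Subgroup.centralizer {pres.val 10} := SetLike.le_def.mp htop.ge (Subgroup.mem_top g)
  exact (Subgroup.mem_centralizer_singleton_iff.mp hg).symm

/-- The central letter as a sign. -/
noncomputable def signHom : ℤˣ →* G where
  toFun u := if u = 1 then 1 else pres.val 10
  map_one' := if_pos rfl
  map_mul' u v := by
    rcases Int.units_eq_one_or u with rfl | rfl <;> rcases Int.units_eq_one_or v with rfl | rfl <;>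
      simp [val_sq]

theorem signHom_neg : signHom (-1) = pres.val 10 := by
  show (if (-1 : ℤˣ) = 1 then (1 : G) else pres.val 10) = _
  rw [if_neg (by decide)]

/-- The double cover inside the presented group. -/
noncomputable def jh : G2 →* G :=
  MonoidHom.noncommCoprod signHom (iota H) fun u g => by
    show signHom u * _ = _ * signHom u
    rcases Int.units_eq_one_or u with rfl | rfl
    · simp
    · rw [signHom_neg]
      exact (iota_comm H g).eq

theorem jh_el : jh H (neg' 1) = pres.val 10 := by
  show signHom (-1) * iota H 1 = _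
  rw [map_one, mul_one]
  exact signHom_neg

theorem jh_gen {l : ℕ} (hl : l < 10) : jh H (neg' (Fi23.pres.val l)) = pres.val l := by
  show signHom (-1) * iota H (Fi23.pres.val l) = _
  rw [signHom_neg, iota_val H hl, ← mul_assoc,
    (l_comm (by omega)).eq, mul_assoc, val_sq, mul_one]

theorem jh_word : ∀ {W : List ℕ}, (∀ l ∈ W, l < 11) →
    evalWord pres.val W = jh H ((-1) ^ W.length, evalWord Fi23.pres.val (strip W))
  | [], _ => (map_one _).symm
  | l :: W, h => by
    rw [evalWord, jh_word (fun x hx => h x (List.mem_cons_of_mem _ hx))]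
    have hl := h l List.mem_cons_self
    rcases Nat.lt_or_ge l 10 with h10 | h10
    · rw [← jh_gen H h10, ← map_mul, strip_lt W h10]
      congr 1
      ext
      · simp [neg', pow_succ']
      · rfl
    · obtain rfl : l = 10 := by omega
      rw [← jh_el H, ← map_mul, strip_ge]
      congr 1
      ext
      · simp [neg', pow_succ']
      · simp [neg']

theorem phi_jh (p : G2) : phi H (jh H p) = sig H p := by
  have h1 : ∀ g : Fi23.pres.Gp, phi H (iota H g) = sig H (1, g) := by
    have htop : MonoidHom.eqLocus ((phi H).comp (iota H)) ((sig H).comp (MonoidHom.inr _ _)) = ⊤ := by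
      rw [eq_top_iff, ← Fi23.pres.closure_val, Subgroup.closure_le]
      rintro _ ⟨l, hl, rfl⟩
      have hl : l < 10 := hl
      show phi H (iota H _) = sig H (1, _)
      rw [iota_val H hl, map_mul, phi_val H (by omega), phi_val H (by omega), mv, if_pos hl, mv,
        if_neg (by omega), if_pos rfl, gen, el, ← map_mul, Exist24.neg'_mul, mul_one]
    intro g
    exact SetLike.le_def.mp htop.ge (Subgroup.mem_top g)
  obtain ⟨u, g⟩ := p
  show phi H (signHom u * iota H g) = _
  rw [map_mul, h1]
  rcases Int.units_eq_one_or u with rfl | rfl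
  · rw [show signHom 1 = 1 from map_one _, map_one, one_mul]
  · rw [signHom_neg, phi_val H (by omega), mv, if_neg (by omega),
      if_pos rfl, el, ← map_mul]
    congr 1
    ext <;> simp [neg']

/-- The subgroup of all letters but `k`. -/
noncomputable def Hs : Subgroup G := (jh H).range

theorem word_mem {W : List ℕ} (h : ∀ l ∈ W, l < 11) : evalWord pres.val W ∈ Hs H := ⟨_, (jh_word H h).symm⟩

/-- The cosets. -/
abbrev Cos : Type := G ⧸ Hs H

/-- The coset reached by a word. -/
noncomputable def pt (W : List ℕ) : Cos H := ((evalWord pres.val W)⁻¹ : G)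

theorem pt_append (A B : List ℕ) : pt H (A ++ B) = (evalWord pres.val B)⁻¹ • pt H A := by
  rw [pt, pt, evalWord_append, mul_inv_rev]
  rfl

theorem pt_congr {A B : List ℕ} (h : pt H A = pt H B) (C : List ℕ) : pt H (A ++ C) = pt H (B ++ C) := by
  rw [pt_append, pt_append, h]

theorem pt_eval {A B : List ℕ} (h : evalWord pres.val A = evalWord pres.val B) : pt H A = pt H B := by
  rw [pt, pt, h]

theorem pt_swap (A : List ℕ) {U V : List ℕ} (h : evalWord pres.val U = evalWord pres.val V) (B : List ℕ) :
    pt H (A ++ U ++ B) = pt H (A ++ V ++ B) :=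
  pt_eval H (by simp only [evalWord_append, h])

theorem pt_drop {U : List ℕ} (hU : ∀ l ∈ U, l < 11) (W : List ℕ) : pt H (U ++ W) = pt H W := by
  refine QuotientGroup.eq.mpr ?_
  rw [inv_inv, evalWord_append, mul_assoc, mul_inv_cancel, mul_one]
  exact word_mem H hU

theorem k_word_comm : ∀ {c : List ℕ}, (∀ l ∈ c, 1 ≤ l ∧ l < 10) → Commute (pres.val 11) (evalWord pres.val c)
  | [], _ => Commute.one_right _
  | l :: c, h => (k_comm (h l List.mem_cons_self).1 (h l List.mem_cons_self).2).mul_right
      (k_word_comm fun x hx => h x (List.mem_cons_of_mem _ hx))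

theorem braid3 {t : ℕ} (ht : t = 0 ∨ t = 10) :
    evalWord pres.val [11, t, 11] = evalWord pres.val [t, 11, t] := by
  have h : [11, t, 11, t, 11, t] ∈ pres.relWords := by rcases ht with rfl | rfl <;> decide +kernel
  have e := pres.rel_val _ h
  simp only [evalWord, mul_one] at e ⊢
  have ht' := val_inv t
  have hk := val_inv 11
  calc pres.val 11 * (pres.val t * pres.val 11)
      = (pres.val 11 * (pres.val t * (pres.val 11 * (pres.val t * (pres.val 11 * pres.val t))))) *
        ((pres.val t)⁻¹ * ((pres.val 11)⁻¹ * (pres.val t)⁻¹)) := by group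
    _ = pres.val t * (pres.val 11 * pres.val t) := by rw [e, one_mul, ht', hk]

/-- The new letter maps one coset to another. -/
def Edge (P Q : List ℕ) : Prop := pt H (P ++ [11]) = pt H Q

theorem kk : evalWord pres.val [11, 11] = evalWord pres.val [] := by simp [evalWord, val_sq]

variable {H}

theorem Edge.symm {P Q : List ℕ} (h : Edge H P Q) : Edge H Q P := by
  show pt H (Q ++ [11]) = pt H P
  rw [← pt_congr H h [11]]
  have := pt_swap H P (U := [11, 11]) (V := []) kk []
  simpa [List.append_assoc] using this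

theorem Edge.move {P Q : List ℕ} (h : Edge H P Q) {c : List ℕ} (hc : ∀ l ∈ c, 1 ≤ l ∧ l < 10) :
    Edge H (P ++ c) (Q ++ c) := by
  show pt H (P ++ c ++ [11]) = pt H (Q ++ c)
  rw [← pt_congr H h c]
  refine pt_eval H ?_
  simp only [evalWord_append, evalWord, mul_one, mul_assoc]
  rw [(k_word_comm hc).eq]

theorem Edge.congr {P Q P' Q' : List ℕ} (h : Edge H P Q) (hp : pt H P' = pt H P) (hq : pt H Q = pt H Q') :
    Edge H P' Q' := (pt_congr H hp [11]).trans (Eq.trans h hq)

theorem Edge.braid {Q R S : List ℕ} {t : ℕ} (ht : t = 0 ∨ t = 10) (h1 : Edge H Q R)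
    (h2 : Edge H (R ++ [t]) S) : Edge H (Q ++ [t]) (S ++ [t]) := by
  show pt H (Q ++ [t] ++ [11]) = pt H (S ++ [t])
  rw [← pt_congr H h2 [t]]
  have e1 : pt H (Q ++ [t] ++ [11]) = pt H (R ++ [11] ++ [t] ++ [11]) :=
    pt_congr H (pt_congr H h1.symm [t]).symm [11]
  have e2 := pt_swap H R (braid3 ht) []
  simp only [List.append_assoc, List.cons_append, List.nil_append, List.append_nil] at e1 e2 ⊢
  exact e1.trans e2

theorem pt_fix_append {B A C : List ℕ} (hA : pt H (B ++ A) = pt H B) (hC : pt H (B ++ C) = pt H B) :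
    pt H (B ++ (A ++ C)) = pt H B := by
  rw [← List.append_assoc, pt_congr H hA C, hC]

theorem pt_fix_reverse {B A : List ℕ} (hA : pt H (B ++ A) = pt H B) : pt H (B ++ A.reverse) = pt H B := by
  rw [← pt_congr H hA A.reverse]
  refine pt_eval H ?_
  simp only [evalWord_append, eval_reverse, mul_inv_cancel_right]

/-- The point of a coset. -/
noncomputable def psi (H : Checked) : Cos H → X :=
  Quotient.lift (fun g => phi H g (Sum.inl ())) fun a b h => by
    have hab : a⁻¹ * b ∈ Hs H := QuotientGroup.leftRel_apply.mp h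
    obtain ⟨p, hp⟩ := hab
    show phi H a (Sum.inl ()) = phi H b (Sum.inl ())
    have hb : b = a * jh H p := by rw [hp, mul_inv_cancel_left]
    rw [hb, map_mul, Equiv.Perm.mul_apply, phi_jh, Exist24.sig_inl]

theorem psi_smul (g : G) (q : Cos H) : psi H (g • q) = phi H g (psi H q) := by
  induction q using QuotientGroup.induction_on with
  | _ a => show phi H (g * a) _ = _; rw [map_mul]; rfl

theorem psi_pt {W : List ℕ} (hW : ∀ l ∈ W, l < 12) : cd (psi H (pt H W)) = runC W 0 := by
  show cd (phi H (evalWord pres.val W)⁻¹ (Sum.inl ())) = _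
  rw [map_inv, phi_word H hW, cd_run]
  rfl

/-- Equality of cosets in an orbit whose stabiliser is known. -/
theorem pt_eq_of_run {B : List ℕ} (hB : ∀ l ∈ B, l < 12)
    (hfix : ∀ p : G2, sig H p (psi H (pt H B)) = psi H (pt H B) → jh H p • pt H B = pt H B)
    {U V : List ℕ} (hU : ∀ l ∈ U, l < 11) (hV : ∀ l ∈ V, l < 11)
    (hrun : runC (B ++ U) 0 = runC (B ++ V) 0) : pt H (B ++ U) = pt H (B ++ V) := by
  obtain ⟨p, hp⟩ := mul_mem (word_mem H hU) (inv_mem (word_mem H hV))
  have hU12 : ∀ l ∈ B ++ U, l < 12 := fun l hl =>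
    (List.mem_append.mp hl).elim (hB l) fun h => by have := hU l h; omega
  have hV12 : ∀ l ∈ B ++ V, l < 12 := fun l hl =>
    (List.mem_append.mp hl).elim (hB l) fun h => by have := hV l h; omega
  have he : psi H (pt H (B ++ U)) = psi H (pt H (B ++ V)) :=
    Exist24.cd_inj (by rw [psi_pt hU12, psi_pt hV12, hrun])
  rw [pt_append, pt_append, psi_smul, psi_smul] at he
  have hx : sig H p (psi H (pt H B)) = psi H (pt H B) := by
    rw [← phi_jh, hp, map_mul, Equiv.Perm.mul_apply, ← he, ← Equiv.Perm.mul_apply, ← map_mul, mul_inv_cancel, map_one]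
    rfl
  have h := hfix p hx
  rw [hp, mul_smul] at h
  rw [pt_append, pt_append]
  exact (eq_inv_smul_iff.mpr h).symm

end Cfsg.Agent.CosetEnum.Fi24
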