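import Cfsg.Agent.SporB.Fi24.Model
import Cfsg.Agent.SporB.Fi24.E7.Cert
import Cfsg.Agent.SporB.Fi24.K0.Cert
import Cfsg.Agent.SporB.Fi24.Sp.Cert
import Cfsg.Agent.SporB.Fi23.Main

/-!
The spider relation follows from the relations of the presented `Fi24`.
-/

set_option autoImplicit false
set_option maxRecDepth 100000

namespace Cfsg.Agent.CosetEnum

/-- A walk in a certificate that closes up puts the word in the subgroup. -/
theorem mem_of_cert {G : Type} [Group G] {S : Sys} {val : ℕ → G} (hL : Letters S val) {K : Subgroup G}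
    {rels subs : List (List ℕ)} (hrels : ∀ W ∈ rels, evalWord val W = 1) (hsubs : ∀ W ∈ subs, evalWord val W ∈ K)
    (hrules : S.rules.all (fun R => R.check S rels subs) = true)
    (dcs : List ℕ) {D N : ℕ} (fcs : List (ℕ × ℕ)) (hd : S.DefsOK 0 dcs) (hds : dcs.sum = D)
    (hf : S.FactsOK D fcs) (hfs : D + (fcs.map Prod.fst).sum = N)
    {W : List ℕ} {L v : ℕ} (hw : (S.walk N L v 0 W).map Prod.fst = some 0) : evalWord val W ∈ K := by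
  have hA := hL.isAction K
  obtain ⟨f, h0, hdef⟩ := S.exists_map (cosetAct val K) (((1 : G) : G ⧸ K))
    (D := D) fun k hk => hd.spec k (Nat.zero_le _) (by omega)
  have hR : ∀ i, (S.rules.get i).Valid (cosetAct val K) (f 0) := fun i => by
    rw [h0]
    exact hL.valid hrels hsubs (DTree.all_get hrules i)
  have hfacts := hf.spec hA hR hdef
  obtain ⟨⟨y, v'⟩, hy, hy0⟩ := Option.map_eq_some_iff.mp hw
  obtain rfl : y = 0 := hy0
  have h := S.walk_spec hA (f := f) (k := N) (fun k hk => hfacts k (by omega)) hy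
  rw [h0, run_cosetAct, MulAction.Quotient.smul_coe, QuotientGroup.eq, smul_eq_mul, mul_one, mul_one, inv_inv] at h
  exact h

namespace Fi24
open Cfsg.Agent.Exist24 (X G2 sig neg' gen el kP cd dc Checked)

def w7 : List (List ℕ) := [[],[0],[0,1],[0,1,2],[0,1,2,3],[0,1,2,3,4],[0,1,2,3,8],[0,1,2,3,4,5],[0,1,2,3,4,8],[0,1,2,3,4,5,8],[0,1,2,3,4,8,3],[0,1,2,3,4,5,8,3],[0,1,2,3,4,8,3,2],[0,1,2,3,4,5,8,3,2],[0,1,2,3,4,5,8,3,4],[0,1,2,3,4,8,3,2,1],[0,1,2,3,4,5,8,3,2,1],[0,1,2,3,4,5,8,3,2,4],[0,1,2,3,4,8,3,2,1,0],[0,1,2,3,4,5,8,3,2,1,0],[0,1,2,3,4,5,8,3,2,1,4],[0,1,2,3,4,5,8,3,2,4,3],[0,1,2,3,4,5,8,3,2,1,0,4],[0,1,2,3,4,5,8,3,2,1,4,3],[0,1,2,3,4,5,8,3,2,4,3,8],[0,1,2,3,4,5,8,3,2,1,0,4,3],[0,1,2,3,4,5,8,3,2,1,4,3,2],[0,1,2,3,4,5,8,3,2,1,4,3,8],[0,1,2,3,4,5,8,3,2,1,0,4,3,2],[0,1,2,3,4,5,8,3,2,1,0,4,3,8],[0,1,2,3,4,5,8,3,2,1,4,3,2,8],[0,1,2,3,4,5,8,3,2,1,0,4,3,2,1],[0,1,2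,3,4,5,8,3,2,1,0,4,3,2,8],[0,1,2,3,4,5,8,3,2,1,4,3,2,8,3],[0,1,2,3,4,5,8,3,2,1,0,4,3,2,1,8],[0,1,2,3,4,5,8,3,2,1,0,4,3,2,8,3],[0,1,2,3,4,5,8,3,2,1,4,3,2,8,3,4],[0,1,2,3,4,5,8,3,2,1,0,4,3,2,1,8,3],[0,1,2,3,4,5,8,3,2,1,0,4,3,2,8,3,4],[0,1,2,3,4,5,8,3,2,1,4,3,2,8,3,4,5],[0,1,2,3,4,5,8,3,2,1,0,4,3,2,1,8,3,2],[0,1,2,3,4,5,8,3,2,1,0,4,3,2,1,8,3,4],[0,1,2,3,4,5,8,3,2,1,0,4,3,2,8,3,4,5],[0,1,2,3,4,5,8,3,2,1,0,4,3,2,1,8,3,2,4],[0,1,2,3,4,5,8,3,2,1,0,4,3,2,1,8,3,4,5],[0,1,2,3,4,5,8,3,2,1,0,4,3,2,1,8,3,2,4,3],[0,1,2,3,4,5,8,3,2,1,0,4,3,2,1,8,3,2,4,5],[0,1,2,3,4,5,8,3,2,1,0,4,3,2,1,8,3,2,4,3,5],[0,1,2,3,4,5,8,3,2,1,0,4,3,2,1,8,3,2,4,3,8],[0,1,2,3,4,5,8,3,2,1,0,4,3,2,1,8,3,2,4,3,5,4],[0,1,2,3,4,5,8,3,2,1,0,4,3,2,1,8,3,2,4,3,5,8],[0,1,2,3,4,5,8,3,2,1,0,4,3,2,1,8,3,2,4,3,5,4,8],[0,1,2,3,4,5,8,3,2,1,0,4,3,2,1,8,3,2,4,3,5,4,8,3],[0,1,2,3,4,5,8,3,2,1,0,4,3,2,1,8,3,2,4,3,5,4,8,3,2],[0,1,2,3,4,5,8,3,2,1,0,4,3,2,1,8,3,2,4,3,5,4,8,3,2,1],[0,1,2,3,4,5,8,3,2,1,0,4,3,2,1,8,3,2,4,3,5,4,8,3,2,1,0]]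

def w0 : List (List ℕ) := [[],[11],[11,10],[11,0],[11,10,0],[11,0,1],[11,10,0,11],[11,10,0,1],[11,0,1,2],[11,10,0,11,1],[11,10,0,1,2],[11,0,1,2,3],[11,10,0,11,1,0],[11,10,0,11,1,2],[11,10,0,1,2,3],[11,0,1,2,3,4],[11,0,1,2,3,8],[11,10,0,11,1,0,2],[11,10,0,11,1,2,3],[11,10,0,1,2,3,4],[11,10,0,1,2,3,8],[11,0,1,2,3,4,5],[11,0,1,2,3,4,8],[11,10,0,11,1,0,2,1],[11,10,0,11,1,0,2,3],[11,10,0,11,1,2,3,4],[11,10,0,11,1,2,3,8],[11,10,0,1,2,3,4,5],[11,10,0,1,2,3,4,8],[11,0,1,2,3,4,5,8],[11,0,1,2,3,4,8,3],[11,10,0,11,1,0,2,1,3],[11,10,0,11,1,0,2,3,4],[11,10,0,11,1,0,2,3,8],[11,10,0,11,1,2,3,4,5],[11,10,0,11,1,2,3,4,8],[11,10,0,1,2,3,4,5,8],[11,10,0,1,2,3,4,8,3],[11,0,1,2,3,4,5,8,3],[11,0,1,2,3,4,8,3,2],[11,10,0,11,1,0,2,1,3,2],[11,10,0,11,1,0,2,1,3,4],[11,10,0,11,1,0,2,1,3,8],[11,10,0,11,1,0,2,3,4,5],[11,10,0,11,1,0,2,3,4,8],[11,10,0,11,1,2,3,4,5,8],[11,10,0,11,1,2,3,4,8,3]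,[11,10,0,1,2,3,4,5,8,3],[11,10,0,1,2,3,4,8,3,2],[11,0,1,2,3,4,5,8,3,2],[11,0,1,2,3,4,5,8,3,4],[11,0,1,2,3,4,8,3,2,1],[11,10,0,11,1,0,2,1,3,2,4],[11,10,0,11,1,0,2,1,3,2,8],[11,10,0,11,1,0,2,1,3,4,5],[11,10,0,11,1,0,2,1,3,4,8],[11,10,0,11,1,0,2,3,4,5,8],[11,10,0,11,1,0,2,3,4,8,3],[11,10,0,11,1,2,3,4,5,8,3],[11,10,0,11,1,2,3,4,8,3,2],[11,10,0,1,2,3,4,5,8,3,2],[11,10,0,1,2,3,4,5,8,3,4],[11,10,0,1,2,3,4,8,3,2,1],[11,0,1,2,3,4,5,8,3,2,1],[11,0,1,2,3,4,5,8,3,2,4],[11,0,1,2,3,4,8,3,2,1,0],[11,10,0,11,1,0,2,1,3,2,4,3],[11,10,0,11,1,0,2,1,3,2,4,5],[11,10,0,11,1,0,2,1,3,2,4,8],[11,10,0,11,1,0,2,1,3,2,8,3],[11,10,0,11,1,0,2,1,3,4,5,8],[11,10,0,11,1,0,2,1,3,4,8,3],[11,10,0,11,1,0,2,3,4,5,8,3],[11,10,0,11,1,0,2,3,4,8,3,2],[11,10,0,11,1,2,3,4,5,8,3,2],[11,10,0,11,1,2,3,4,5,8,3,4],[11,10,0,11,1,2,3,4,8,3,2,1],[11,10,0,1,2,3,4,5,8,3,2,1],[11,10,0,1,2,3,4,5,8,3,2,4],[11,10,0,1,2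,3,4,8,3,2,1,0],[11,0,1,2,3,4,5,8,3,2,1,0],[11,0,1,2,3,4,5,8,3,2,1,4],[11,0,1,2,3,4,5,8,3,2,4,3],[11,0,1,2,3,4,8,3,2,1,0,11],[11,10,0,11,1,0,2,1,3,2,4,3,5],[11,10,0,11,1,0,2,1,3,2,4,5,8],[11,10,0,11,1,0,2,1,3,4,5,8,3],[11,10,0,11,1,0,2,3,4,5,8,3,2],[11,10,0,11,1,0,2,3,4,5,8,3,4],[11,10,0,11,1,2,3,4,5,8,3,2,1],[11,10,0,11,1,2,3,4,5,8,3,2,4],[11,10,0,1,2,3,4,5,8,3,2,1,0],[11,10,0,1,2,3,4,5,8,3,2,1,4],[11,10,0,1,2,3,4,5,8,3,2,4,3],[11,0,1,2,3,4,5,8,3,2,1,0,11],[11,0,1,2,3,4,5,8,3,2,1,0,4],[11,0,1,2,3,4,5,8,3,2,1,4,3],[11,0,1,2,3,4,5,8,3,2,4,3,8],[11,10,0,11,1,0,2,1,3,2,4,3,5,4],[11,10,0,11,1,0,2,1,3,4,5,8,3,4],[11,10,0,11,1,0,2,3,4,5,8,3,2,4],[11,10,0,11,1,2,3,4,5,8,3,2,1,4],[11,10,0,11,1,2,3,4,5,8,3,2,4,3],[11,10,0,1,2,3,4,5,8,3,2,1,0,4],[11,10,0,1,2,3,4,5,8,3,2,1,4,3],[11,10,0,1,2,3,4,5,8,3,2,4,3,8],[11,0,1,2,3,4,5,8,3,2,1,0,11,4],[11,0,1,2,3,4,5,8,3,2,1,0,4,3],[11,0,1,2,3,4,5,8,3,2,1,4,3,2],[11,0,1,2,3,4,5,8,3,2,1,4,3,8],[11,10,0,11,1,0,2,3,4,5,8,3,2,4,3],[11,10,0,11,1,2,3,4,5,8,3,2,1,4,3],[11,10,0,11,1,2,3,4,5,8,3,2,4,3,8],[11,10,0,1,2,3,4,5,8,3,2,1,0,4,3],[11,10,0,1,2,3,4,5,8,3,2,1,4,3,2],[11,10,0,1,2,3,4,5,8,3,2,1,4,3,8],[11,0,1,2,3,4,5,8,3,2,1,0,11,4,3],[11,10,0,11,1,0,2,3,4,5,8,3,2,4,3,8],[11,10,0,11,1,2,3,4,5,8,3,2,1,4,3,2],[11,10,0,11,1,2,3,4,5,8,3,2,1,4,3,8]]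

/-- Words moving the code to distinct codes. -/
noncomputable def orbitStep (ws : List (List ℕ)) (sel : List ℕ) (r : ℕ) : Bool :=
  ws.all (fun W => W.all fun l => sel.contains l) && decide ((ws.map fun W => runC W r).Nodup)

theorem orb7 : orbitStep w7 E7.sel 31672 = true := by decide +kernel

theorem orb0 : orbitStep w0 K0.sel 0 = true := by decide +kernel

theorem fix7 : Fi23.E6.sel.all (fun l => Nat.beq (mC 31672 l) 31672) = true := by decide +kernel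

theorem fix0 : E7.sel.all (fun l => Nat.beq (mC 0 l) 0) = true := by decide +kernel

variable (H : Checked)

theorem phi_sub (sel : List ℕ) (hsel : ∀ l ∈ sel, l < 12) :
    (pres.sub sel).map (phi H) = Subgroup.closure (mv H '' {l | l ∈ sel}) := by
  rw [pres.sub_eq_closure, MonoidHom.map_closure]
  congr 1
  ext g
  constructor
  · rintro ⟨_, hy, rfl⟩
    obtain ⟨l, hl, rfl⟩ := List.mem_map.mp hy
    exact ⟨l, hl, (phi_val H (hsel l hl)).symm⟩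
  · rintro ⟨l, hl, rfl⟩
    exact ⟨_, List.mem_map.mpr ⟨l, hl, rfl⟩, phi_val H (hsel l hl)⟩

/-- The order of `W(E6)` in `Fi23`. -/
theorem card_E6 : 51840 ≤ Nat.card (Fi23.pres.sub Fi23.E6.sel) := by
  have hH := Fi23.card_H.2
  set P := Fi23.pres
  have h3 : P.sub Fi23.E6.sel ≤ P.sub Fi23.P.sel := P.sub_mono (by decide)
  have h4 : P.sub Fi23.P.sel ≤ P.sub Fi23.O.sel := P.sub_mono (by decide)
  have h5 : P.sub Fi23.O.sel ≤ P.sub Fi23.A.sel := P.sub_mono (by decide)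
  have e : Nat.card (P.sub Fi23.A.sel) = Nat.card (P.sub Fi23.E6.sel) *
      (P.sub Fi23.E6.sel).relIndex (P.sub Fi23.P.sel) * (P.sub Fi23.P.sel).relIndex (P.sub Fi23.O.sel) *
      (P.sub Fi23.O.sel).relIndex (P.sub Fi23.A.sel) := by
    rw [← Subgroup.relIndex_bot_left, ← Subgroup.relIndex_bot_left,
      Subgroup.relIndex_mul_relIndex _ _ _ bot_le h3,
      Subgroup.relIndex_mul_relIndex _ _ _ bot_le h4,
      Subgroup.relIndex_mul_relIndex _ _ _ bot_le h5]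
  have hH' : Nat.card (P.sub Fi23.A.sel) = 129123503308800 := hH
  rw [e] at hH'
  by_contra hlt
  have : Nat.card (P.sub Fi23.E6.sel) * (P.sub Fi23.E6.sel).relIndex (P.sub Fi23.P.sel) *
      (P.sub Fi23.P.sel).relIndex (P.sub Fi23.O.sel) * (P.sub Fi23.O.sel).relIndex (P.sub Fi23.A.sel) ≤
      51839 * 243 * 728 * 14080 :=
    Nat.mul_le_mul (Nat.mul_le_mul (Nat.mul_le_mul (by omega) Fi23.bound_P.2) Fi23.bound_O.2) Fi23.bound_A.2
  omega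

theorem lower_E6 : 51840 ≤ Nat.card (Subgroup.closure (mv H '' {l | l ∈ Fi23.E6.sel})) := by
  set S : Set G2 := (fun l => neg' (Fi23.pres.val l)) '' {l | l ∈ Fi23.E6.sel} with hS
  haveI := Fi23.finite
  have h1 : Subgroup.closure (mv H '' {l | l ∈ Fi23.E6.sel}) = (Subgroup.closure S).map (sig H) := by
    rw [MonoidHom.map_closure, hS, Set.image_image]
    congr 1
    refine Set.image_congr fun l hl => ?_
    exact if_pos ((by decide : ∀ m ∈ Fi23.E6.sel, m < 10) l hl)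
  have h2 : (Subgroup.closure S).map (MonoidHom.snd _ _) = Fi23.pres.sub Fi23.E6.sel := by
    rw [MonoidHom.map_closure, hS, Set.image_image, Fi23.pres.sub_eq_closure]
    congr 1
    ext g
    simp [List.mem_map, neg']
  rw [h1, Subgroup.card_map_of_injective (Exist24.sig_injective H)]
  refine card_E6.trans ?_
  rw [← h2]
  exact Nat.le_of_dvd Nat.card_pos (Subgroup.card_map_dvd _ _)

theorem X_finite : Finite X := inferInstance

/-- A point fixed by the smaller group with a long orbit. -/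
theorem card_step {A B : Subgroup (Equiv.Perm X)} (hAB : A ≤ B) (x : X) (hfix : ∀ g ∈ A, g x = x)
    {n : ℕ} (pts : Finset X) (hn : n ≤ pts.card) (hpts : ∀ y ∈ pts, ∃ g ∈ B, g x = y) :
    n * Nat.card A ≤ Nat.card B := by
  haveI : Finite B := inferInstance
  rw [← Subgroup.index_mul_card (MulAction.stabilizer B x)]
  refine Nat.mul_le_mul ?_ ?_
  · rw [MulAction.index_stabilizer]
    refine hn.trans ?_
    rw [← Set.ncard_coe_finset]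
    refine Set.ncard_le_ncard (fun y hy => ?_) (Set.toFinite _)
    obtain ⟨g, hg, rfl⟩ := hpts y hy
    exact ⟨⟨g, hg⟩, rfl⟩
  · refine Nat.card_le_card_of_injective (fun a : A => (⟨⟨a, hAB a.2⟩, hfix a a.2⟩ : MulAction.stabilizer B x)) ?_
    intro a b h
    exact Subtype.ext (congrArg (fun z : MulAction.stabilizer B x => ((z : B) : Equiv.Perm X)) h)

theorem orbit_bound {sel sel' : List ℕ} (hsub : ∀ l ∈ sel, l ∈ sel') {ws : List (List ℕ)}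
    {r : ℕ} (hr : r < 306936) (hfix : sel.all (fun l => Nat.beq (mC r l) r) = true)
    (horb : orbitStep ws sel' r = true) :
    ws.length * Nat.card (Subgroup.closure (mv H '' {l | l ∈ sel})) ≤
      Nat.card (Subgroup.closure (mv H '' {l | l ∈ sel'})) := by
  classical
  simp only [orbitStep, Bool.and_eq_true, decide_eq_true_eq, List.all_eq_true, List.contains_iff_mem] at horb
  refine card_step (Subgroup.closure_mono (Set.image_mono fun l hl => hsub l hl)) (dc r) (fun g hg => ?_)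
    ((ws.map fun W => dc (runC W r)).toFinset) ?_ ?_
  · have hle : Subgroup.closure (mv H '' {l | l ∈ sel}) ≤ MulAction.stabilizer (Equiv.Perm X) (dc r) := by
      rw [Subgroup.closure_le]
      rintro _ ⟨l, hl, rfl⟩
      refine Exist24.cd_inj ?_
      show cd (mv H l (dc r)) = _
      rw [cd_mv, Exist24.cd_dc hr]
      exact Nat.eq_of_beq_eq_true (List.all_eq_true.mp hfix l hl)
    exact hle hg
  · have hcd : ∀ W ∈ ws, cd ((evalWord (mv H) W)⁻¹ (dc r)) = runC W r := fun W _ => by rw [cd_run, Exist24.cd_dc hr]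
    rw [List.toFinset_card_of_nodup, List.length_map]
    have h := horb.2
    rw [List.Nodup, List.pairwise_map] at h ⊢
    refine h.imp_of_mem fun {a b} ha hb hne he => hne ?_
    have e := congrArg cd he
    rw [Exist24.cd_dc (hcd a ha ▸ Exist24.cd_lt _), Exist24.cd_dc (hcd b hb ▸ Exist24.cd_lt _)] at e
    exact e
  · intro y hy
    rw [List.mem_toFinset, List.mem_map] at hy
    obtain ⟨W, hW, rfl⟩ := hy
    refine ⟨(evalWord (mv H) W)⁻¹, inv_mem ?_, Exist24.cd_inj ?_⟩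
    · have : ∀ V : List ℕ, (∀ l ∈ V, l ∈ sel') → evalWord (mv H) V ∈ Subgroup.closure (mv H '' {l | l ∈ sel'}) := by
        intro V
        induction V with
        | nil => exact fun _ => one_mem _
        | cons l V ih =>
          intro hV
          have hl : mv H l ∈ mv H '' {l | l ∈ sel'} := Set.mem_image_of_mem _ (hV l List.mem_cons_self)
          exact mul_mem (Subgroup.subset_closure hl) (ih fun x hx => hV x (List.mem_cons_of_mem _ hx))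
      exact this W (horb.1 W hW)
    · have h1 : runC W r < 306936 := by
        have := cd_run H W (dc r)
        rw [Exist24.cd_dc hr] at this
        exact this ▸ Exist24.cd_lt _
      rw [cd_run, Exist24.cd_dc hr, Exist24.cd_dc h1]

theorem lower_K0 : 348364800 ≤ Nat.card (Subgroup.closure (mv H '' {l | l ∈ K0.sel})) := by
  have h7 := orbit_bound H (by decide : ∀ l ∈ Fi23.E6.sel, l ∈ E7.sel) (by norm_num) fix7 orb7
  have h0 := orbit_bound H (by decide : ∀ l ∈ E7.sel, l ∈ K0.sel) (by norm_num) fix0 orb0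
  have h6 := lower_E6 H
  rw [show w7.length = 56 from rfl] at h7
  rw [show w0.length = 120 from rfl] at h0
  omega

theorem upper_K0 : Nat.card (pres.sub K0.sel) ≠ 0 ∧ Nat.card (pres.sub K0.sel) ≤ 348364800 := by
  have b4 : (⊥ : Subgroup G).relIndex (pres.sub Fi23.A4.sel) ≠ 0 ∧
      (⊥ : Subgroup G).relIndex (pres.sub Fi23.A4.sel) ≤ 120 :=
    pres.relIndex_le Fi23.A4.cert rfl Fi23.A4.inv_ok (rels := Fi23.A4.rels) (by decide +kernel) Fi23.A4.rules_ok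
      (fun W hW => absurd hW (List.not_mem_nil (a := W)))
  have b5 := pres.relIndex_le Fi23.D5.cert rfl Fi23.D5.inv_ok (rels := Fi23.D5.rels) (by decide +kernel)
    Fi23.D5.rules_ok (pres.subs_mem Fi23.D5.sel Fi23.A4.sel (by decide +kernel))
  have b6 := pres.relIndex_le Fi23.E6.cert rfl Fi23.E6.inv_ok (rels := Fi23.E6.rels) (by decide +kernel)
    Fi23.E6.rules_ok (pres.subs_mem Fi23.E6.sel Fi23.D5.sel (by decide +kernel))
  have b7 := pres.relIndex_le E7.cert rfl E7.inv_ok (rels := E7.rels) (by decide +kernel)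
    E7.rules_ok (pres.subs_mem E7.sel Fi23.E6.sel (by decide +kernel))
  have b0 := pres.relIndex_le K0.cert rfl K0.inv_ok (rels := K0.rels) (by decide +kernel)
    K0.rules_ok (pres.subs_mem K0.sel E7.sel (by decide +kernel))
  have h1 : pres.sub Fi23.A4.sel ≤ pres.sub Fi23.D5.sel := pres.sub_mono (by decide)
  have h2 : pres.sub Fi23.D5.sel ≤ pres.sub Fi23.E6.sel := pres.sub_mono (by decide)
  have h3 : pres.sub Fi23.E6.sel ≤ pres.sub E7.sel := pres.sub_mono (by decide)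
  have h4 : pres.sub E7.sel ≤ pres.sub K0.sel := pres.sub_mono (by decide)
  rw [← Subgroup.relIndex_bot_left, ← Subgroup.relIndex_mul_relIndex _ _ _ bot_le h4,
    ← Subgroup.relIndex_mul_relIndex _ _ _ bot_le h3, ← Subgroup.relIndex_mul_relIndex _ _ _ bot_le h2,
    ← Subgroup.relIndex_mul_relIndex _ _ _ bot_le h1]
  refine ⟨?_, ?_⟩
  · simp only [Nat.mul_ne_zero_iff]
    exact ⟨⟨⟨⟨b4.1, b5.1⟩, b6.1⟩, b7.1⟩, b0.1⟩
  · calc _ ≤ 120 * 16 * 27 * 56 * 120 :=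
          Nat.mul_le_mul (Nat.mul_le_mul (Nat.mul_le_mul (Nat.mul_le_mul b4.2 b5.2) b6.2) b7.2) b0.2
      _ = _ := by norm_num

theorem spider_triv : triv (repWord [3, 2, 1, 3, 4, 5, 3, 8, 9] 10) = true := by decide +kernel

theorem spider_target : Sp.target.map (fun l => Sp.sel.getD l 0) = repWord [3, 2, 1, 3, 4, 5, 3, 8, 9] 10 := by
  decide +kernel

include H in
/-- The spider relation. -/
theorem spider : evalWord pres.val (repWord [3, 2, 1, 3, 4, 5, 3, 8, 9] 10) = 1 := by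
  haveI : Finite (pres.sub K0.sel) := Nat.finite_of_card_ne_zero upper_K0.1
  have hmem : evalWord pres.val (repWord [3, 2, 1, 3, 4, 5, 3, 8, 9] 10) ∈ pres.sub K0.sel := by
    rw [← spider_target, ← pres.evalWord_subVal Sp.sel (by decide +kernel)]
    exact mem_of_cert (pres.subLetters (S := Sp.sys) rfl Sp.inv_ok (by decide))
      (pres.local_rels (sel := Sp.sel) (rels := Sp.rels) (by decide +kernel))
      (pres.subs_mem Sp.sel K0.sel (by decide +kernel)) Sp.rules_ok Sp.dchunks Sp.fchunks Sp.defsOK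
      (D := Sp.D) (by decide +kernel) Sp.factsOK (N := Sp.N) (by decide +kernel) Sp.walk_ok
  let r : pres.sub K0.sel →* (pres.sub K0.sel).map (phi H) := (phi H).subgroupMap _
  have hsurj : Function.Surjective r := MonoidHom.subgroupMap_surjective _ _
  haveI : Finite ↥((pres.sub K0.sel).map (phi H)) := Finite.of_surjective r hsurj
  have hlow : Nat.card (pres.sub K0.sel) ≤ Nat.card ((pres.sub K0.sel).map (phi H)) := by
    rw [phi_sub H K0.sel (by decide)]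
    exact upper_K0.2.trans (lower_K0 H)
  have hinj : Function.Injective r := by
    have heq := le_antisymm hlow (Nat.card_le_card_of_surjective r hsurj)
    exact ((Nat.bijective_iff_surjective_and_card r).mpr ⟨hsurj, heq⟩).1
  have := @hinj ⟨_, hmem⟩ 1 (Subtype.ext (by
    show phi H (evalWord pres.val _) = phi H 1
    rw [map_one, phi_word H (by decide +kernel), triv_model H spider_triv]))
  exact congrArg Subtype.val this

end Fi24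

end Cfsg.Agent.CosetEnum
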