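import Cfsg.Agent.SporB.Fi24.Local

/-!
The stabiliser of the coset next to the coset of `k`.
-/

set_option autoImplicit false
set_option maxRecDepth 100000
set_option linter.unusedSectionVars false

namespace Cfsg.Agent.CosetEnum.Fi24
open Cfsg.Agent.Exist24 (X G2 sig neg' gen el kP cd dc oX aX lC gC kC Checked)
open Cfsg.Agent.CosetEnum.Fi23.Tri (act)

variable (H : Checked)

/-- A word without `k` that commutes past it. -/
abbrev C9w (c : List ℕ) : Prop := c.all (fun l => Nat.ble 1 l && Nat.blt l 10) = true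

theorem c9_spec {c : List ℕ} (h : C9w c) : ∀ l ∈ c, 1 ≤ l ∧ l < 10 := fun l hl => by
  have := List.all_eq_true.mp h l hl
  rw [Bool.and_eq_true] at this
  exact ⟨Nat.le_of_ble_eq_true this.1, Nat.le_of_ble_eq_true this.2⟩

/-- The word of the coset next to the coset of `k`. -/
def B2 : List ℕ := [11, 10, 0, 11]

theorem comm_swap {a b : ℕ} (h : Commute (pres.val a) (pres.val b)) :
    evalWord pres.val [a, b] = evalWord pres.val [b, a] := by
  simp only [evalWord, mul_one]; exact h.eq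

theorem E0 : Edge H [11] [] := pt_eval H kk

theorem E4 : Edge H [11, 10] [11, 10] :=
  (pt_eval H (braid3 (t := 10) (Or.inr rfl))).trans (pt_drop H (U := [10]) (by decide) [11, 10])

theorem E8 : Edge H [11, 0] [11, 0] :=
  (pt_eval H (braid3 (t := 0) (Or.inl rfl))).trans (pt_drop H (U := [0]) (by decide) [11, 0])

theorem E10 : Edge H [11, 10, 0] B2 := rfl

theorem E1 : Edge H (B2 ++ [1, 0]) (B2 ++ [1, 0]) := by
  have hk1 := comm_swap (k_comm (l := 1) le_rfl (by omega))
  have hl1 := comm_swap (l_comm (l := 1) (by omega))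
  have h010 : evalWord pres.val [0, 1, 0] = evalWord pres.val [1, 0, 1] := by
    have e := pres.rel_val [0, 1, 0, 1, 0, 1] (by decide +kernel)
    simp only [evalWord, mul_one] at e ⊢
    calc pres.val 0 * (pres.val 1 * pres.val 0)
        = (pres.val 0 * (pres.val 1 * (pres.val 0 * (pres.val 1 * (pres.val 0 * pres.val 1))))) *
          ((pres.val 1)⁻¹ * ((pres.val 0)⁻¹ * (pres.val 1)⁻¹)) := by group
      _ = pres.val 1 * (pres.val 0 * pres.val 1) := by rw [e, one_mul, val_inv, val_inv]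
  show pt H [11, 10, 0, 11, 1, 0, 11] = pt H [11, 10, 0, 11, 1, 0]
  calc pt H [11, 10, 0, 11, 1, 0, 11] = pt H [11, 10, 0, 1, 11, 0, 11] := pt_swap H [11, 10, 0] hk1 [0, 11]
    _ = pt H [11, 10, 0, 1, 0, 11, 0] := pt_swap H [11, 10, 0, 1] (braid3 (t := 0) (Or.inl rfl)) []
    _ = pt H [11, 10, 1, 0, 1, 11, 0] := pt_swap H [11, 10] h010 [11, 0]
    _ = pt H [11, 1, 10, 0, 1, 11, 0] := pt_swap H [11] hl1 [0, 1, 11, 0]
    _ = pt H [1, 11, 10, 0, 1, 11, 0] := pt_swap H [] hk1 [10, 0, 1, 11, 0]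
    _ = pt H [11, 10, 0, 1, 11, 0] := pt_drop H (U := [1]) (by decide) _
    _ = pt H [11, 10, 0, 11, 1, 0] := (pt_swap H [11, 10, 0] hk1 [0]).symm

/-- A word fixing the second coset. -/
abbrev Fix2 (A : List ℕ) : Prop := pt H (B2 ++ A) = pt H B2

theorem fix_small : ∀ c ∈ [2, 3, 4, 5, 6, 7, 8, 9], Fix2 H [c] := by
  intro c hc
  have hr : 2 ≤ c ∧ c < 10 := by
    revert c; decide
  have h0 : Commute (pres.val 0) (pres.val c) :=
    comm_of_rel ((by decide +kernel : ∀ m < 10, 2 ≤ m → [0, m, 0, m] ∈ pres.relWords) c hr.2 hr.1)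
  have hk := comm_swap (k_comm (l := c) (by omega) hr.2)
  have hl := comm_swap (l_comm (l := c) (by omega))
  show pt H [11, 10, 0, 11, c] = pt H [11, 10, 0, 11]
  calc pt H [11, 10, 0, 11, c] = pt H [11, 10, 0, c, 11] := pt_swap H [11, 10, 0] hk []
    _ = pt H [11, 10, c, 0, 11] := pt_swap H [11, 10] (comm_swap h0) [11]
    _ = pt H [11, c, 10, 0, 11] := pt_swap H [11] hl [0, 11]
    _ = pt H [c, 11, 10, 0, 11] := pt_swap H [] hk [10, 0, 11]
    _ = pt H [11, 10, 0, 11] := pt_drop H (U := [c]) (by simpa using (show c < 11 by omega)) _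

theorem fix_l : Fix2 H [10] := by
  have hla := comm_swap (l_comm (l := 0) (by omega))
  show pt H [11, 10, 0, 11, 10] = pt H [11, 10, 0, 11]
  calc pt H [11, 10, 0, 11, 10] = pt H [11, 0, 10, 11, 10] := pt_swap H [11] hla [11, 10]
    _ = pt H [11, 0, 11, 10, 11] := (pt_swap H [11, 0] (braid3 (t := 10) (Or.inr rfl)) []).symm
    _ = pt H [0, 11, 0, 10, 11] := pt_swap H [] (braid3 (t := 0) (Or.inl rfl)) [10, 11]
    _ = pt H [11, 0, 10, 11] := pt_drop H (U := [0]) (by decide) _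
    _ = pt H [11, 10, 0, 11] := (pt_swap H [11] hla [11]).symm

theorem fix_a : Fix2 H [0] := by
  have hla := comm_swap (l_comm (l := 0) (by omega))
  show pt H [11, 10, 0, 11, 0] = pt H [11, 10, 0, 11]
  calc pt H [11, 10, 0, 11, 0] = pt H [11, 10, 11, 0, 11] :=
        (pt_swap H [11, 10] (braid3 (t := 0) (Or.inl rfl)) []).symm
    _ = pt H [10, 11, 10, 0, 11] := pt_swap H [] (braid3 (t := 10) (Or.inr rfl)) [0, 11]
    _ = pt H [11, 10, 0, 11] := pt_drop H (U := [10]) (by decide) _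

/-- The extra element fixing the second coset. -/
def sW : List ℕ := [1, 2, 3, 4, 8, 3, 2, 1, 0, 1, 2, 3, 8, 4, 3, 2, 1]

theorem fix_s : Fix2 H sW := by
  let c : List ℕ := [1, 2, 3, 4, 8, 3, 2, 1]
  let c8 : List ℕ := [1, 2, 3, 4, 5, 8, 3, 2, 1, 4, 3, 2, 8, 3, 4, 5]
  have hc : C9w c := by decide
  have hc8 : C9w c8 := by decide
  have a : Edge H ([11, 10, 0] ++ c) (B2 ++ c) := (E10 H).move (c9_spec hc)
  have b : Edge H ([11, 0] ++ c8) ([11, 0] ++ c8) := (E8 H).move (c9_spec hc8)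
  have q1 : pt H ([11] ++ (([10, 0] ++ c) ++ [0])) = pt H ([11] ++ ([0] ++ c8)) := eq1 (by decide +kernel)
  have q2 : pt H ([11] ++ (([0] ++ c8) ++ [0])) = pt H ([11] ++ ([10, 0] ++ c)) := eq1 (by decide +kernel)
  have b' : Edge H ([11, 10, 0] ++ c ++ [0]) ([11, 0] ++ c8) := b.congr q1 rfl
  have d : Edge H (B2 ++ c ++ [0]) ([11, 0] ++ c8 ++ [0]) := a.symm.braid (Or.inl rfl) b'
  have d2 : Edge H (B2 ++ c ++ [0]) ([11, 10, 0] ++ c) := d.congr rfl q2
  have e : pt H (B2 ++ c ++ [0]) = pt H (B2 ++ c) := Eq.trans (Eq.symm (Edge.symm d2)) a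
  show pt H (B2 ++ c ++ [0] ++ c.reverse) = pt H B2
  rw [pt_congr H e c.reverse]
  refine pt_eval H ?_
  simp only [evalWord_append, eval_reverse, mul_inv_cancel_right]

/-- The words whose products fix the second coset. -/
def gens2 : List (List ℕ) := [[0], [2], [3], [4], [5], [6], [7], [8], [9], sW]

theorem fix_gens2 : ∀ A ∈ gens2, Fix2 H A := by
  intro A hA
  simp only [gens2, List.mem_cons, List.not_mem_nil, or_false] at hA
  rcases hA with rfl | rfl | rfl | rfl | rfl | rfl | rfl | rfl | rfl | rfl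
  exacts [fix_a H, fix_small H 2 (by decide), fix_small H 3 (by decide), fix_small H 4 (by decide),
    fix_small H 5 (by decide), fix_small H 6 (by decide), fix_small H 7 (by decide), fix_small H 8 (by decide),
    fix_small H 9 (by decide), fix_s H]

/-- A product of the words. -/
def spell (ix : List ℕ) : List ℕ := (ix.map fun i => gens2.getD i []).flatten

theorem fix_spell : ∀ ix : List ℕ, Fix2 H (spell ix)
  | [] => by show pt H (B2 ++ []) = _; rw [List.append_nil]
  | i :: ix => by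
    show pt H (B2 ++ (gens2.getD i [] ++ spell ix)) = _
    refine pt_fix_append ?_ (fix_spell ix)
    rcases Nat.lt_or_ge i gens2.length with h | h
    · rw [List.getD_eq_getElem _ _ h]; exact fix_gens2 H _ (List.getElem_mem h)
    · rw [List.getD_eq_default _ _ h, List.append_nil]

/-- A word moving the base point to the point of the first letter. -/
def v2 : List ℕ := [7, 6, 5, 4, 3, 2, 1, 0, 8, 3, 2, 4, 3, 5, 4, 6, 5, 7, 6, 8, 3, 2, 4, 3, 5, 4, 8, 3, 2, 1]

/-- The spellings of the conjugates of the nine letters. -/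
def table2 : List (ℕ × List ℕ) :=
  [(0, [2, 3, 4, 5, 6, 9, 4, 3, 2, 5, 4, 3, 9, 4, 5, 6]), (1, [2, 1, 3, 2, 4, 3, 5, 4, 6, 5]),
    (2, [2, 1, 3, 2, 4, 3, 5, 4]), (3, [2, 1, 3, 2, 4, 3]), (4, [2, 1, 3, 2]), (5, [2, 1]), (6, [2, 1, 7, 2]),
    (8, [2, 1, 3, 2, 4, 3, 9, 4]), (9, [2, 1, 3, 4, 5, 6, 9, 4, 3, 5, 4, 9, 8])]

theorem table2_ok : table2.all (fun e => Exist24.uStep ((spell e.2).reverse ++ [2] ++ spell e.2)
    (v2.reverse ++ [e.1] ++ v2)) = true ∧ table2.map (fun e => e.1) = Fi23.A.sel ∧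
    Fi23.Rep.tbl.run v2 0 = Fi23.Tri.pl 0 ∧ v2.all (fun l => Nat.blt l 10) = true := by
  refine ⟨?_, ?_, ?_, ?_⟩ <;> decide +kernel

theorem psi_B2 : psi H (pt H B2) = aX := by
  refine Exist24.cd_inj ?_
  rw [psi_pt (by decide)]
  exact base_codes.2.trans (Exist24.cd_aX H).symm

/-- The stabiliser of the point fixes the second coset. -/
theorem hfix2 : ∀ p : G2, sig H p (psi H (pt H B2)) = psi H (pt H B2) → jh H p • pt H B2 = pt H B2 := by
  intro p hp
  rw [psi_B2] at hp
  let S : Subgroup G2 := (MulAction.stabilizer G (pt H B2)).comap (jh H)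
  show p ∈ S
  have hword : ∀ {W : List ℕ}, Fix2 H W → (hW : ∀ l ∈ W, l < 11) →
      (((-1 : ℤˣ) ^ W.length, evalWord Fi23.pres.val (strip W)) : G2) ∈ S := by
    intro W hF hW
    show jh H _ • pt H B2 = pt H B2
    rw [← jh_word H hW]
    have h : pt H (B2 ++ W) = pt H B2 := hF
    rw [pt_append] at h
    conv_lhs => rw [← h]
    rw [smul_inv_smul]
  have hel : neg' 1 ∈ S := by
    have := hword (fix_l H) (by decide)
    exact this
  have hone : ∀ {g : Fi23.pres.Gp} {u : ℤˣ}, ((u, g) : G2) ∈ S → ∀ u' : ℤˣ, ((u', g) : G2) ∈ S := by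
    intro g u h u'
    by_cases e : u' = u
    · exact e ▸ h
    · have : ((u', g) : G2) = neg' 1 * (u, g) := by
        ext
        · rcases Int.units_eq_one_or u with rfl | rfl <;> rcases Int.units_eq_one_or u' with rfl | rfl <;>
            simp_all [neg']
        · simp [neg']
      exact this ▸ mul_mem hel h
  set gv : Fi23.pres.Gp := (evalWord Fi23.pres.val v2)⁻¹ with hgv
  have hgens : ∀ x ∈ Fi23.A.sel, ((1 : ℤˣ), gv * Fi23.pres.val x * gv⁻¹) ∈ S := by
    intro x hx
    rw [← table2_ok.2.1, List.mem_map] at hx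
    obtain ⟨e, he, rfl⟩ := hx
    have hu := List.all_eq_true.mp table2_ok.1 e he
    have hlt : ∀ l ∈ (spell e.2).reverse ++ [2] ++ spell e.2, l < 10 := by
      simp only [Exist24.uStep, Bool.and_eq_true, List.all_eq_true] at hu
      exact fun l hl => Nat.le_of_ble_eq_true (hu.1.1 l hl)
    have hc2 : Fix2 H [2] := fix_small H 2 (by decide)
    have h := hword (pt_fix_append (pt_fix_append (pt_fix_reverse (fix_spell H e.2)) hc2) (fix_spell H e.2))
      fun l hl => by have := hlt l hl; omega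
    have hs : ∀ {W : List ℕ}, (∀ l ∈ W, l < 10) → strip W = W := fun {W} hW => by
      rw [strip, List.filter_eq_self]; exact fun l hl => Nat.ble_eq.mpr (hW l hl)
    rw [hs hlt, Exist24.word_ext hu] at h
    have := hone h 1
    rw [evalWord_append, evalWord_append, Fi23.inv_word, show evalWord Fi23.pres.val [e.1] = Fi23.pres.val e.1 from mul_one _] at this
    rw [hgv, inv_inv]
    exact this
  obtain ⟨u, g⟩ := p
  refine hone (u := 1) ?_ u
  have hcomm : Commute g (Fi23.pres.val 0) := by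
    rw [Fi23.Tri.letter_point 0 (by omega), ← Fi23.Tri.fix_iff]
    have h := hp
    rw [Exist24.aX, Exist24.sig_pt, Sum.inr.injEq, Sum.inl.injEq] at h
    exact h
  have hbase : act gv Fi23.rep.base = Fi23.Tri.pt (Fi23.Tri.pl 0) := by
    apply Fin.ext
    rw [hgv, map_inv, Fi23.Tri.run_eq table2_ok.2.2.2, Fi23.Tri.pt_pl (by omega)]
    exact table2_ok.2.2.1
  have hmem : gv⁻¹ * g * gv ∈ Fi23.H := by
    rw [Fi23.Tri.mem_H_iff, map_mul, map_mul, Equiv.Perm.mul_apply, Equiv.Perm.mul_apply, hbase, map_inv,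
      Equiv.Perm.inv_eq_iff_eq, hbase]
    exact (Fi23.Tri.fix_iff g _).mpr (by rw [← Fi23.Tri.letter_point 0 (by omega)]; exact hcomm)
  have hle : Fi23.H ≤ S.comap ((MonoidHom.inr ℤˣ Fi23.pres.Gp).comp (MulAut.conj gv).toMonoidHom) := by
    rw [Fi23.H, Fi23.pres.sub_eq_closure, Subgroup.closure_le]
    rintro _ hy
    obtain ⟨x, hx, rfl⟩ := List.mem_map.mp hy
    exact hgens x hx
  have h := hle hmem
  have e : (MulAut.conj gv) (gv⁻¹ * g * gv) = g := by
    rw [MulAut.conj_apply]; group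
  show ((1 : ℤˣ), g) ∈ S
  rw [← e]
  exact h

/-- Equality of cosets next to the coset of `k`. -/
theorem eq2 {U V : List ℕ} (h : (U.all (fun l => Nat.blt l 11) && V.all (fun l => Nat.blt l 11) &&
    Nat.beq (runC (B2 ++ U) 0) (runC (B2 ++ V) 0)) = true) : pt H (B2 ++ U) = pt H (B2 ++ V) := by
  simp only [Bool.and_eq_true, List.all_eq_true] at h
  exact pt_eq_of_run (by decide) (hfix2 H) (fun l hl => Nat.le_of_ble_eq_true (h.1.1 l hl))
    (fun l hl => Nat.le_of_ble_eq_true (h.1.2 l hl)) (Nat.eq_of_beq_eq_true h.2)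

end Cfsg.Agent.CosetEnum.Fi24
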