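import Cfsg.Agent.SporB.Fi24.Stages

/-!
The closing relation makes the last generator of the stabiliser fix the coset of `k`.
-/

set_option autoImplicit false
set_option maxRecDepth 100000

namespace Cfsg.Agent.CosetEnum.Fi24

variable (H : Cfsg.Agent.Exist24.Checked)

theorem E12 : Edge H ([11] ++ ([0,1,2,3,4,5,8,3,4,9,8,3,2,1,10] ++ [0])) ([11] ++ ([0,1,2,3,4,5,8,3,2,4,3,8,9,8,3,2,1,4,3,5,4,8,3,10] ++ [0])) := by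
  have h1 : Edge H ([11] ++ [0,1,2,3,4,5,8,3,4,9,8,3,2,1,10]) (B2 ++ [1,2,3,4,5,8,3,4,9,8,3,2,1]) := (((E10 H)).move (c9_spec (c := [1,2,3,4,5,8,3,4,9,8,3,2,1]) (by decide))).congr (eq1 (by decide +kernel)) (eq2 H (by decide +kernel))
  have h2 : Edge H (B2 ++ ([1,2,3,4,5,8,3,4,9,8,3,2,1] ++ [0])) ([11] ++ [0,1,2,3,4,5,8,3,2,4,3,8,9,8,3,2,1,4,3,5,4,8,3,10]) := (((E10 H).symm).move (c9_spec (c := [1,2,3,4,5,8,3,2,4,3,8,9,8,3,2,1,4,3,5,4,8,3]) (by decide))).congr (eq2 H (by decide +kernel)) (eq1 (by decide +kernel))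
  exact Edge.braid (Or.inl rfl) h1 h2

/-- The start of the walk. -/
def startW : List ℕ := [0,1,2,3,4,5,8,3,2,1,4,3,9,8,3,2,1,0,10]

theorem chain {P acc C mid D : List ℕ} (h : pt H (P ++ acc) = pt H C) (e : Edge H (C ++ mid) D) :
    pt H (P ++ (acc ++ mid ++ [11])) = pt H D := by
  rw [← List.append_assoc, ← List.append_assoc, pt_congr H (pt_congr H h mid) [11]]
  exact e

theorem loop_eq : ∃ C : List ℕ, pt H ([11] ++ startW) = pt H ([11] ++ C) ∧ C = [0,1,2,3,4,5,6,7,8,3,2,1,0,4,3,5,9,8,3,2,1,0,4,3,2,1,5,4,6,5,8,3,2,4,3,8,9,8,3,2,1,4,3,2,5,4,6,5,7,8,10,10,3,4,5,6,7,3,8,9] := by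
  have s0 : pt H ([11] ++ startW ++ []) = pt H ([11] ++ startW) := by rw [List.append_nil]
  have e0 : Edge H ([11] ++ (startW ++ [3,2,1,0])) ([11] ++ [0,1,2,3,4,5,8,3,2,1,4,3,8,9,8,3,2,1]) :=
    (((E8 H)).move (c9_spec (c := [1,2,3,4,5,8,3,2,1,4,3,8,9,8,3,2,1]) (by decide))).congr (eq1 (by decide +kernel)) (eq1 (by decide +kernel))
  have s1 := chain H s0 (C := ([11] ++ startW)) (mid := [3,2,1,0]) (by simpa [List.append_assoc] using e0)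
  have e1 : Edge H ([11] ++ ([0,1,2,3,4,5,8,3,2,1,4,3,8,9,8,3,2,1] ++ [10,3,4,5,6,7,3,8,9,3,2,1,0])) (B2 ++ [1,2,3,4,5,6,7,8,3,2,4,3,8,9,8,3,2,4]) :=
    (((E10 H)).move (c9_spec (c := [1,2,3,4,5,6,7,8,3,2,4,3,8,9,8,3,2,4]) (by decide))).congr (eq1 (by decide +kernel)) (eq2 H (by decide +kernel))
  have s2 := chain H s1 (C := ([11] ++ [0,1,2,3,4,5,8,3,2,1,4,3,8,9,8,3,2,1])) (mid := [10,3,4,5,6,7,3,8,9,3,2,1,0]) (by simpa [List.append_assoc] using e1)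
  have e2 : Edge H (B2 ++ ([1,2,3,4,5,6,7,8,3,2,4,3,8,9,8,3,2,4] ++ [10,3,4,5,6,7,3,8,9,3,2,1,0])) ([11] ++ [0,1,2,3,4,5,6,7,8,3,2,4,3,8,9,8,3,2,1,4,5,6,10]) :=
    (((E10 H).symm).move (c9_spec (c := [1,2,3,4,5,6,7,8,3,2,4,3,8,9,8,3,2,1,4,5,6]) (by decide))).congr (eq2 H (by decide +kernel)) (eq1 (by decide +kernel))
  have s3 := chain H s2 (C := (B2 ++ [1,2,3,4,5,6,7,8,3,2,4,3,8,9,8,3,2,4])) (mid := [10,3,4,5,6,7,3,8,9,3,2,1,0]) (by simpa [List.append_assoc] using e2)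
  have e3 : Edge H ([11] ++ ([0,1,2,3,4,5,6,7,8,3,2,4,3,8,9,8,3,2,1,4,5,6,10] ++ [10,3,4,5,6,7,3,8,9,3,2,1,0])) (B2 ++ [1,2,3,4,5,6,7,8,3,2,1,4,3,2,5,4,6,8,9,8,3,2,4,5,6]) :=
    (((E10 H)).move (c9_spec (c := [1,2,3,4,5,6,7,8,3,2,1,4,3,2,5,4,6,8,9,8,3,2,4,5,6]) (by decide))).congr (eq1 (by decide +kernel)) (eq2 H (by decide +kernel))
  have s4 := chain H s3 (C := ([11] ++ [0,1,2,3,4,5,6,7,8,3,2,4,3,8,9,8,3,2,1,4,5,6,10])) (mid := [10,3,4,5,6,7,3,8,9,3,2,1,0]) (by simpa [List.append_assoc] using e3)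
  have e4 : Edge H (B2 ++ ([1,2,3,4,5,6,7,8,3,2,1,4,3,2,5,4,6,8,9,8,3,2,4,5,6] ++ [10,3,4,5,6,7,3,8,9,3,2,1,0])) ([11] ++ [0,1,2,3,4,5,6,7,8,3,2,1,0,4,5,6,9,8,3,2,1,4,3,2,5,4,3,6,7,8,3,4,5]) :=
    (((E10 H).symm).move (c9_spec (c := [1,2,3,4,5,6,7,8,3,2,1,4,5,6,9,8,3,2,1,4,3,2,5,4,3,6,5,8,3,4,5]) (by decide))).congr (eq2 H (by decide +kernel)) (eq1 (by decide +kernel))
  have s5 := chain H s4 (C := (B2 ++ [1,2,3,4,5,6,7,8,3,2,1,4,3,2,5,4,6,8,9,8,3,2,4,5,6])) (mid := [10,3,4,5,6,7,3,8,9,3,2,1,0]) (by simpa [List.append_assoc] using e4)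
  have e5 : Edge H ([11] ++ ([0,1,2,3,4,5,6,7,8,3,2,1,0,4,5,6,9,8,3,2,1,4,3,2,5,4,3,6,7,8,3,4,5] ++ [10,3,4,5,6,7,3,8,9,3,2,1,0])) ([11] ++ [0,1,2,3,4,5,6,7,8,3,2,1,0,4,5,6,9,8,3,2,1,0,4,3,2,1,5,4,3,8,3,2,4,3,9]) :=
    (((E12 H)).move (c9_spec (c := [3,2,1,4,3,2,6,5,4,3,7,6,8,3,2,4,3,5,4,6]) (by decide))).congr (eq1 (by decide +kernel)) (eq1 (by decide +kernel))
  have s6 := chain H s5 (C := ([11] ++ [0,1,2,3,4,5,6,7,8,3,2,1,0,4,5,6,9,8,3,2,1,4,3,2,5,4,3,6,7,8,3,4,5])) (mid := [10,3,4,5,6,7,3,8,9,3,2,1,0]) (by simpa [List.append_assoc] using e5)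
  have e6 : Edge H ([11] ++ ([0,1,2,3,4,5,6,7,8,3,2,1,0,4,5,6,9,8,3,2,1,0,4,3,2,1,5,4,3,8,3,2,4,3,9] ++ [10,3,4,5,6,7,3,8,9,3,2,1,0])) ([11] ++ [0,1,2,3,4,5,6,7,8,3,2,1,4,5,6,9,8,3,2,1,0,4,3,2,1,5,4,3,6,7,8,3,2,1,0]) :=
    (((E12 H)).move (c9_spec (c := [3,6,5,4,3,7,6,5,8,3,2,1,9,8,3,2,4,3,5,4,6,7]) (by decide))).congr (eq1 (by decide +kernel)) (eq1 (by decide +kernel))
  have s7 := chain H s6 (C := ([11] ++ [0,1,2,3,4,5,6,7,8,3,2,1,0,4,5,6,9,8,3,2,1,0,4,3,2,1,5,4,3,8,3,2,4,3,9])) (mid := [10,3,4,5,6,7,3,8,9,3,2,1,0]) (by simpa [List.append_assoc] using e6)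
  have e7 : Edge H ([11] ++ ([0,1,2,3,4,5,6,7,8,3,2,1,4,5,6,9,8,3,2,1,0,4,3,2,1,5,4,3,6,7,8,3,2,1,0] ++ [10,3,4,5,6,7,3,8,9,3,2,1,0])) ([11] ++ [0,1,2,3,4,5,6,8,3,2,1,4,3,5,8,9,8,3,2,1,0,4,3,2,8,3,4,5,6,9]) :=
    (((E12 H)).move (c9_spec (c := [3,4,5,6,5,4,3,2,1,8,3,2,4,3,5,4,8,9,8]) (by decide))).congr (eq1 (by decide +kernel)) (eq1 (by decide +kernel))
  have s8 := chain H s7 (C := ([11] ++ [0,1,2,3,4,5,6,7,8,3,2,1,4,5,6,9,8,3,2,1,0,4,3,2,1,5,4,3,6,7,8,3,2,1,0])) (mid := [10,3,4,5,6,7,3,8,9,3,2,1,0]) (by simpa [List.append_assoc] using e7)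
  have e8 : Edge H ([11] ++ ([0,1,2,3,4,5,6,8,3,2,1,4,3,5,8,9,8,3,2,1,0,4,3,2,8,3,4,5,6,9] ++ [10,3,4,5,6,7,3,8,9,3,2,1,0])) ([11] ++ [0,1,2,3,4,5,6,7,8,3,2,1,0,4,3,5,8,9,8,3,2,1,0,4,3,2,5,4,8,3,2,1,4,9,8,3]) :=
    (((E12 H)).move (c9_spec (c := [3,2,4,3,6,5,4,3,2,7,8,3,2,1,4,3,8,9,8,3,4]) (by decide))).congr (eq1 (by decide +kernel)) (eq1 (by decide +kernel))
  have s9 := chain H s8 (C := ([11] ++ [0,1,2,3,4,5,6,8,3,2,1,4,3,5,8,9,8,3,2,1,0,4,3,2,8,3,4,5,6,9])) (mid := [10,3,4,5,6,7,3,8,9,3,2,1,0]) (by simpa [List.append_assoc] using e8)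
  have e9 : Edge H ([11] ++ ([0,1,2,3,4,5,6,7,8,3,2,1,0,4,3,5,8,9,8,3,2,1,0,4,3,2,5,4,8,3,2,1,4,9,8,3] ++ [10,3,4,5,6,7,3,8,9,3,2,1,0])) (B2 ++ [1,2,3,4,5,6,7,8,3,2,1,4,3,5,8,9,8,3,2,1,4,3,2,5,4,6,8]) :=
    (((E10 H)).move (c9_spec (c := [1,2,3,4,5,6,7,8,3,2,1,4,3,5,8,9,8,3,2,1,4,3,2,5,4,6,8]) (by decide))).congr (eq1 (by decide +kernel)) (eq2 H (by decide +kernel))
  have s10 := chain H s9 (C := ([11] ++ [0,1,2,3,4,5,6,7,8,3,2,1,0,4,3,5,8,9,8,3,2,1,0,4,3,2,5,4,8,3,2,1,4,9,8,3])) (mid := [10,3,4,5,6,7,3,8,9,3,2,1,0]) (by simpa [List.append_assoc] using e9)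
  have e10 : Edge H (B2 ++ ([1,2,3,4,5,6,7,8,3,2,1,4,3,5,8,9,8,3,2,1,4,3,2,5,4,6,8] ++ [10,3,4,5,6,7,3,8,9,3,2,1,0])) ([11] ++ [0,1,2,3,4,5,6,7,8,3,2,1,0,4,3,2,9,8,3,2,4,3,5,4,6,5,7,8,3,2]) :=
    (((E10 H).symm).move (c9_spec (c := [1,2,3,4,5,6,7,8,3,2,1,4,3,2,5,4,9,8,3,2,4,3,5,4,6,5,7,6]) (by decide))).congr (eq2 H (by decide +kernel)) (eq1 (by decide +kernel))
  have s11 := chain H s10 (C := (B2 ++ [1,2,3,4,5,6,7,8,3,2,1,4,3,5,8,9,8,3,2,1,4,3,2,5,4,6,8])) (mid := [10,3,4,5,6,7,3,8,9,3,2,1,0]) (by simpa [List.append_assoc] using e10)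
  have e11 : Edge H ([11] ++ ([0,1,2,3,4,5,6,7,8,3,2,1,0,4,3,2,9,8,3,2,4,3,5,4,6,5,7,8,3,2] ++ [10,3,4,5,6,7,3,8,9,3,2,1,0])) ([11] ++ [0,1,2,3,4,5,6,7,8,3,2,1,0,4,5,6,9,8,3,2,1,0,4,3,2,1,5,4,3,6,8,3,4,5]) :=
    (((E12 H)).move (c9_spec (c := [3,2,1,4,3,2,6,5,4,3,2,7,6,5,4,8,3,2,4,3,5,4,9]) (by decide))).congr (eq1 (by decide +kernel)) (eq1 (by decide +kernel))
  have s12 := chain H s11 (C := ([11] ++ [0,1,2,3,4,5,6,7,8,3,2,1,0,4,3,2,9,8,3,2,4,3,5,4,6,5,7,8,3,2])) (mid := [10,3,4,5,6,7,3,8,9,3,2,1,0]) (by simpa [List.append_assoc] using e11)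
  have e12 : Edge H ([11] ++ ([0,1,2,3,4,5,6,7,8,3,2,1,0,4,5,6,9,8,3,2,1,0,4,3,2,1,5,4,3,6,8,3,4,5] ++ [10,3,4,5,6,7,3,8,9,3,2,1,0])) ([11] ++ [0,1,2,3,4,5,6,7,8,3,2,1,0,4,3,5,4,6,9,8,3,2,1,0,4,3,2,1,8,3,2,4,3,5,4,6,8,10]) :=
    (((E12 H)).move (c9_spec (c := [3,2,1,4,3,2,6,5,4,3,7,6,8,3,2,1,4,3,2,5,4]) (by decide))).congr (eq1 (by decide +kernel)) (eq1 (by decide +kernel))
  have s13 := chain H s12 (C := ([11] ++ [0,1,2,3,4,5,6,7,8,3,2,1,0,4,5,6,9,8,3,2,1,0,4,3,2,1,5,4,3,6,8,3,4,5])) (mid := [10,3,4,5,6,7,3,8,9,3,2,1,0]) (by simpa [List.append_assoc] using e12)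
  have e13 : Edge H ([11] ++ ([0,1,2,3,4,5,6,7,8,3,2,1,0,4,3,5,4,6,9,8,3,2,1,0,4,3,2,1,8,3,2,4,3,5,4,6,8,10] ++ [10,3,4,5,6,7,3,8,9,3,2,1,0])) ([11] ++ [0,1,2,3,4,5,6,7,8,3,2,4,3,5,4,9,8,3,2,1,0,4,3,2,1,5,4,3,2,6,5,4,3,8,3,2,1,4,5,9,10]) :=
    (((E12 H)).move (c9_spec (c := [3,4,6,5,4,3,7,6,8,3,2,1,4,3,2,5,4,3,8,9,8,3,2,1,4,5]) (by decide))).congr (eq1 (by decide +kernel)) (eq1 (by decide +kernel))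
  have s14 := chain H s13 (C := ([11] ++ [0,1,2,3,4,5,6,7,8,3,2,1,0,4,3,5,4,6,9,8,3,2,1,0,4,3,2,1,8,3,2,4,3,5,4,6,8,10])) (mid := [10,3,4,5,6,7,3,8,9,3,2,1,0]) (by simpa [List.append_assoc] using e13)
  have e14 : Edge H ([11] ++ ([0,1,2,3,4,5,6,7,8,3,2,4,3,5,4,9,8,3,2,1,0,4,3,2,1,5,4,3,2,6,5,4,3,8,3,2,1,4,5,9,10] ++ [10,3,4,5,6,7,3,8,9,3,2,1,0])) ([11] ++ [0,1,2,3,4,5,6,7,8,3,2,1,0,4,3,5,6,9,8,3,2,1,0,4,3,2,1,5,4,3,6,5,8,3,2,1,4,3,2,8,9,8,3,2,4,5,10]) :=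
    (((E12 H)).move (c9_spec (c := [3,2,4,5,6,5,4,7,6,8,3,2,1,4,3,2,5,4,3,8,3,9,8,3,2,1,4,3,2,8,3,4,5,9]) (by decide))).congr (eq1 (by decide +kernel)) (eq1 (by decide +kernel))
  have s15 := chain H s14 (C := ([11] ++ [0,1,2,3,4,5,6,7,8,3,2,4,3,5,4,9,8,3,2,1,0,4,3,2,1,5,4,3,2,6,5,4,3,8,3,2,1,4,5,9,10])) (mid := [10,3,4,5,6,7,3,8,9,3,2,1,0]) (by simpa [List.append_assoc] using e14)
  have e15 : Edge H ([11] ++ ([0,1,2,3,4,5,6,7,8,3,2,1,0,4,3,5,6,9,8,3,2,1,0,4,3,2,1,5,4,3,6,5,8,3,2,1,4,3,2,8,9,8,3,2,4,5,10] ++ [10,3,4,5,6,7,3,8,9,3,2,1,0])) ([11] ++ [0,1,2,3,4,5,6,7,8,3,2,1,4,3,2,5,4,6,9,8,3,2,1,0,4,3,2,1,5,4,6,5,8,3,2,1,0,4,3,8,9,8,3,2,1,4,3,5,6,7,8]) :=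
    (((E12 H)).move (c9_spec (c := [3,2,4,3,5,6,5,4,3,2,1,7,6,5,4,8,3,2,1,4,3,2,5,4,3,8,9,8,3,2,1,4,3,5,6,7,8,9]) (by decide))).congr (eq1 (by decide +kernel)) (eq1 (by decide +kernel))
  have s16 := chain H s15 (C := ([11] ++ [0,1,2,3,4,5,6,7,8,3,2,1,0,4,3,5,6,9,8,3,2,1,0,4,3,2,1,5,4,3,6,5,8,3,2,1,4,3,2,8,9,8,3,2,4,5,10])) (mid := [10,3,4,5,6,7,3,8,9,3,2,1,0]) (by simpa [List.append_assoc] using e15)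
  have e16 : Edge H ([11] ++ ([0,1,2,3,4,5,6,7,8,3,2,1,4,3,2,5,4,6,9,8,3,2,1,0,4,3,2,1,5,4,6,5,8,3,2,1,0,4,3,8,9,8,3,2,1,4,3,5,6,7,8] ++ [10,3,4,5,6,7,3,8,9,3,2,1,0])) ([11] ++ [0,1,2,3,4,5,6,7,8,3,2,1,0,4,3,5,9,8,3,2,1,0,4,3,2,1,5,4,6,5,8,3,2,4,3,8,9,8,3,2,1,4,3,2,5,4,6,5,7,8,10]) :=
    (((E12 H)).move (c9_spec (c := [3,2,4,5,6,5,4,3,7,6,8,3,2,1,4,3,2,5,4,3,8,3,4,9,8,3,2,1,4,3,2,5,4,6,5,7,8,9]) (by decide))).congr (eq1 (by decide +kernel)) (eq1 (by decide +kernel))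
  have s17 := chain H s16 (C := ([11] ++ [0,1,2,3,4,5,6,7,8,3,2,1,4,3,2,5,4,6,9,8,3,2,1,0,4,3,2,1,5,4,6,5,8,3,2,1,0,4,3,8,9,8,3,2,1,4,3,5,6,7,8])) (mid := [10,3,4,5,6,7,3,8,9,3,2,1,0]) (by simpa [List.append_assoc] using e16)
  refine ⟨_, ?_, rfl⟩
  have hz : evalWord pres.val (repWord [3, 2, 1, 0, 11, 10, 3, 4, 5, 6, 7, 3, 8, 9] 17) = evalWord pres.val [] :=
    pres.rel_val _ (by decide +kernel)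
  have h := pt_congr H s17 [10, 3, 4, 5, 6, 7, 3, 8, 9]
  have h2 : pt H ([11] ++ startW) = pt H ([11] ++ startW ++ repWord [3, 2, 1, 0, 11, 10, 3, 4, 5, 6, 7, 3, 8, 9] 17) := by
    refine pt_eval H ?_
    rw [evalWord_append _ ([11] ++ startW), hz]
    exact (mul_one _).symm
  rw [h2]
  refine Eq.trans ?_ (h.trans ?_)
  · exact pt_eval H (congrArg (evalWord pres.val) (by decide +kernel))
  · exact pt_eval H (congrArg (evalWord pres.val) (by decide +kernel))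

/-- The element fixing the coset of `k` given by the closing relation. -/
def loopW : List ℕ := [0,1,2,3,4,5,6,7,8,3,2,1,0,4,3,5,9,8,3,2,1,0,4,3,2,1,5,4,6,5,8,3,2,4,3,8,9,8,3,2,1,4,3,2,5,4,6,5,7,8,10,10,3,4,5,6,7,3,8,9] ++ startW.reverse

theorem loop_fix : pt H ([11] ++ loopW) = pt H [11] := by
  obtain ⟨C, h, rfl⟩ := loop_eq H
  rw [loopW, ← List.append_assoc, ← pt_congr H h startW.reverse]
  refine pt_eval H ?_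
  simp only [evalWord_append, eval_reverse, mul_inv_cancel_right]

/-- The last generator of the stabiliser fixes the coset of `k`. -/
theorem tau : pt H ([11] ++ Fi23.Tri.xFull) = pt H [11] := by
  have h : pt H ([11] ++ (Fi23.Tri.xFull ++ loopW)) = pt H ([11] ++ []) := eq1 (by decide +kernel)
  rw [List.append_nil] at h
  have e : pt H ([11] ++ Fi23.Tri.xFull ++ loopW) = pt H ([11] ++ loopW) := by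
    rw [List.append_assoc, h, loop_fix]
  have := pt_congr H e loopW.reverse
  refine Eq.trans ?_ (this.trans ?_) <;> refine pt_eval H ?_ <;>
    simp only [evalWord_append, eval_reverse, mul_inv_cancel_right]

end Cfsg.Agent.CosetEnum.Fi24
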